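import Groth.Prelude.Def_ExtPow2
import Groth.Agent.Coherent.CohBC.HomSheaf
import Groth.Agent.RelVALib.UPPhi
import Groth.Agent.GrassLib.Points
import Groth.Agent.FinCovLib29.Basis
import Mathlib.LinearAlgebra.ExteriorPower.Basis

/-!
# Exterior powers of modules with bases
-/

set_option autoImplicit false
set_option linter.unusedSectionVars false
set_option linter.style.haveILetI false
set_option backward.isDefEq.respectTransparency.types false
set_option maxHeartbeats 1000000

universe u

open CategoryTheory CategoryTheory.Limits AlgebraicGeometry Opposite TopologicalSpace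
open Groth.Agent.Coherent Groth.Agent.Coherent.CohBC Groth.Agent.PicLib Groth.Agent.AmpleLib

namespace Groth.Agent.GrassLib.PBundle

variable {X : Scheme.{u}}

/-- Bases may be tested on affine opens. -/
theorem isBasisOn_of_affine {I : Type u} [Fintype I] {M : X.Modules} {U : X.Opens} (e : I → Γ(M, U))
    (h : ∀ (A : X.Opens) (hA : A ≤ U), IsAffineOpen A →
      Function.Bijective fun c : I → Γ(X, A) => ∑ i, c i • resM M hA (e i)) : IsBasisOn M U e := by
  intro W hW
  have hres : ∀ (A : X.Opens) (hA : A ≤ W) (c : I → Γ(X, W)),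
      resM M hA (∑ i, c i • resM M hW (e i)) =
        ∑ i, X.presheaf.map (homOfLE hA).op (c i) • resM M (hA.trans hW) (e i) := fun A hA c => by
    rw [map_sum]
    exact Finset.sum_congr rfl fun i _ => by rw [resM_smul, resM_resM]
  constructor
  · intro c c' hcc
    funext i
    refine AmpleLib.sec_ext (Coh.structureModule X) _ _ fun y hy => ?_
    obtain ⟨A, hA, hyA, hAW⟩ := Opens.isBasis_iff_nbhd.1 X.isBasis_affineOpens hy
    refine ⟨A, hAW, hyA, ?_⟩
    exact congrFun ((h A (hAW.trans hW) hA).1 ((hres A hAW c).symm.trans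
      ((congrArg (resM M hAW) hcc).trans (hres A hAW c')))) i
  · intro x
    let J := {A : X.Opens // IsAffineOpen A ∧ A ≤ W}
    choose c hc using fun A : J => (h A.1 (A.2.2.trans hW) A.2.1).2 (resM M A.2.2 x)
    have hcomp : ∀ (A B : J) (i : I), X.presheaf.map (homOfLE (inf_le_left : A.1 ⊓ B.1 ≤ A.1)).op (c A i) =
        X.presheaf.map (homOfLE (inf_le_right : A.1 ⊓ B.1 ≤ B.1)).op (c B i) := by
      intro A B i
      refine AmpleLib.sec_ext (Coh.structureModule X) _ _ fun y hy => ?_
      obtain ⟨C, hC, hyC, hCle⟩ := Opens.isBasis_iff_nbhd.1 X.isBasis_affineOpens hy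
      refine ⟨C, hCle, hyC, ?_⟩
      have key : ∀ (A : J) (hCA : C ≤ A.1),
          ∑ i, X.presheaf.map (homOfLE hCA).op (c A i) • resM M ((hCA.trans A.2.2).trans hW) (e i) =
            resM M (hCA.trans A.2.2) x := fun A hCA => by
        have h1 := congrArg (resM M hCA) (hc A)
        simp only [map_sum, resM_smul, resM_resM] at h1
        exact h1
      have h2 := congrFun ((h C _ hC).1 ((key A (hCle.trans inf_le_left)).trans
        (key B (hCle.trans inf_le_right)).symm)) i
      show (X.presheaf.map _ ≫ X.presheaf.map (homOfLE hCle).op) (c A i) =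
        (X.presheaf.map _ ≫ X.presheaf.map (homOfLE hCle).op) (c B i)
      rw [← Functor.map_comp, ← Functor.map_comp]
      exact h2
    have hcov : W ≤ ⨆ A : J, A.1 := fun y hy => by
      obtain ⟨A, hA, hyA, hAW⟩ := Opens.isBasis_iff_nbhd.1 X.isBasis_affineOpens hy
      exact Opens.mem_iSup.2 ⟨⟨A, hA, hAW⟩, hyA⟩
    choose d hd using fun i => (TopCat.Sheaf.existsUnique_gluing' (⟨(Coh.structureModule X).presheaf,
      (Coh.structureModule X).isSheaf⟩ : TopCat.Sheaf Ab X) (fun A : J => A.1) W
      (fun A => homOfLE A.2.2) hcov (fun A => c A i) fun A B => hcomp A B i).exists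
    refine ⟨d, AmpleLib.sec_ext M _ _ fun y hy => ?_⟩
    obtain ⟨A, hA, hyA, hAW⟩ := Opens.isBasis_iff_nbhd.1 X.isBasis_affineOpens hy
    refine ⟨A, hAW, hyA, (hres A hAW d).trans ?_⟩
    refine Eq.trans (Finset.sum_congr rfl fun i _ => ?_) (hc ⟨A, hA, hAW⟩)
    exact congrArg (· • _) (hd i ⟨A, hA, hAW⟩)

variable {q : ℕ} {V L : X.Modules}
  (φ : ∀ U : X.affineOpens, (L.val.obj (op U.1)) ≃ₗ[Γ(X, U.1)] ↥(⋀[Γ(X, U.1)]^q (V.val.obj (op U.1))))

/-- The wedge of sections over an affine open. -/
noncomputable def wedge (A : X.affineOpens) (v : Fin q → Γ(V, A.1)) : Γ(L, A.1) :=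
  (φ A).symm (exteriorPower.ιMulti _ q fun i => (show V.val.obj (op A.1) from v i))

variable (hφ : ∀ (U U' : X.affineOpens) (h : U'.1 ≤ U.1) (e : Fin q → V.val.obj (op U.1)),
      L.val.map (homOfLE h).op ((φ U).symm (exteriorPower.ιMulti _ q e)) =
        (φ U').symm (exteriorPower.ιMulti _ q (fun j => V.val.map (homOfLE h).op (e j))))

include hφ in
theorem wedge_res {A B : X.affineOpens} (h : B.1 ≤ A.1) (v : Fin q → Γ(V, A.1)) :
    resM L h (wedge φ A v) = wedge φ B fun i => resM V h (v i) :=
  hφ A B h _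

theorem hom_ext_wedge {M : X.Modules} (f g : L ⟶ M)
    (h : ∀ (A : X.affineOpens) (v : Fin q → Γ(V, A.1)), f.app A.1 (wedge φ A v) = g.app A.1 (wedge φ A v)) :
    f = g := by
  refine RelVALib.hom_ext_affine _ _ fun U hU x => ?_
  let A : X.affineOpens := ⟨U, hU⟩
  obtain ⟨y, rfl⟩ : ∃ y, (φ A).symm y = x := (φ A).symm.surjective x
  have hy : y ∈ Submodule.span Γ(X, A.1) (Set.range (exteriorPower.ιMulti Γ(X, A.1) q (M := V.val.obj (op A.1)))) := by
    rw [exteriorPower.ιMulti_span]; trivial
  induction hy using Submodule.span_induction with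
  | mem y hy => obtain ⟨v, rfl⟩ := hy; exact h A v
  | zero =>
    show f.app U ((φ A).symm 0) = g.app U ((φ A).symm 0)
    rw [map_zero]
    exact (map_zero _).trans (map_zero _).symm
  | add a b _ _ ha hb =>
    show f.app U ((φ A).symm (a + b)) = g.app U ((φ A).symm (a + b))
    rw [map_add]
    exact (map_add _ _ _).trans (((congrArg₂ (· + ·) ha hb).trans (map_add _ _ _).symm))
  | smul r a _ ha =>
    show f.app U ((φ A).symm (r • a)) = g.app U ((φ A).symm (r • a))
    rw [map_smul]
    exact (Scheme.Modules.Hom.app_smul f r _).trans ((congrArg (r • ·) ha).trans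
      (Scheme.Modules.Hom.app_smul g r _).symm)

include hφ in
/-- Compatible alternating maps give a map out of the exterior power. -/
theorem exists_hom_of_alt {M : X.Modules}
    (F : ∀ A : X.affineOpens, (V.val.obj (op A.1)) [⋀^Fin q]→ₗ[Γ(X, A.1)] (M.val.obj (op A.1)))
    (hF : ∀ (A B : X.affineOpens) (h : B.1 ≤ A.1) (v : Fin q → Γ(V, A.1)),
      resM M h (show Γ(M, A.1) from F A v) = F B fun i => resM V h (v i)) :
    ∃ f : L ⟶ M, ∀ (A : X.affineOpens) (v : Fin q → Γ(V, A.1)), f.app A.1 (wedge φ A v) = F A v := by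
  let g : ∀ A : X.affineOpens, (L.val.obj (op A.1)) →ₗ[Γ(X, A.1)] (M.val.obj (op A.1)) := fun A =>
    (exteriorPower.alternatingMapLinearEquiv (F A)).comp (φ A).toLinearMap
  have hg : ∀ (A : X.affineOpens) (v : Fin q → Γ(V, A.1)),
      (show Γ(M, A.1) from g A (wedge φ A v)) = F A v := fun A v => by
    show exteriorPower.alternatingMapLinearEquiv (F A) (φ A (wedge φ A v)) = _
    rw [wedge, LinearEquiv.apply_symm_apply]
    exact exteriorPower.alternatingMapLinearEquiv_apply_ιMulti _ _
  obtain ⟨f, hf⟩ := RelVALib.exists_hom_of_affine L M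
    (fun U hU => AddMonoidHom.mk' (fun x => (show Γ(M, U) from g ⟨U, hU⟩ x)) fun a b => map_add (g ⟨U, hU⟩) a b)
    (fun U hU r x => map_smul (g ⟨U, hU⟩) r x)
    (fun U U' hU hU' h x => by
      let A : X.affineOpens := ⟨U, hU⟩
      let B : X.affineOpens := ⟨U', hU'⟩
      obtain ⟨y, rfl⟩ : ∃ y, (φ A).symm y = x := (φ A).symm.surjective x
      show g B (resM L h ((φ A).symm y)) = resM M h (show Γ(M, U) from g A ((φ A).symm y))
      have hy : y ∈ Submodule.span Γ(X, A.1)
          (Set.range (exteriorPower.ιMulti Γ(X, A.1) q (M := V.val.obj (op A.1)))) := by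
        rw [exteriorPower.ιMulti_span]; trivial
      induction hy using Submodule.span_induction with
      | mem y hy =>
        obtain ⟨v, rfl⟩ := hy
        show (show Γ(M, U') from g B (resM L h (wedge φ A v))) = resM M h (show Γ(M, U) from g A (wedge φ A v))
        rw [wedge_res φ hφ (A := A) (B := B) h, hg, hg, hF A B h v]
      | zero =>
        have h0 : (show Γ(L, U) from (φ A).symm 0) = 0 := map_zero _
        show (show Γ(M, U') from g B (resM L h (show Γ(L, U) from (φ A).symm 0))) =
          resM M h (show Γ(M, U) from g A ((φ A).symm 0))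
        rw [h0, map_zero (resM L h), map_zero (φ A).symm]
        exact (map_zero (g B)).trans ((congrArg (resM M h) (map_zero (g A))).trans (map_zero (resM M h))).symm
      | add a b _ _ ha hb =>
        have h0 : (show Γ(L, U) from (φ A).symm (a + b)) =
            (show Γ(L, U) from (φ A).symm a) + (show Γ(L, U) from (φ A).symm b) := map_add _ _ _
        refine (congrArg (fun z => (show Γ(M, U') from g B (resM L h z))) h0).trans ?_
        refine (congrArg (fun z : Γ(L, U') => (show Γ(M, U') from g B z)) (map_add (resM L h) _ _)).trans ?_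
        refine (map_add (g B) _ _).trans ?_
        refine (congrArg₂ (· + ·) ha hb).trans ?_
        refine (map_add (resM M h) _ _).symm.trans (congrArg (resM M h) ?_)
        exact ((congrArg (g A) (map_add (φ A).symm a b)).trans (map_add (g A) _ _)).symm
      | smul r a _ ha =>
        refine (congrArg (fun z : Γ(L, U) => (show Γ(M, U') from g B (resM L h z))) (map_smul (φ A).symm r a)).trans ?_
        refine (congrArg (fun z : Γ(L, U') => (show Γ(M, U') from g B z))
          (resM_smul L h r (show Γ(L, U) from (φ A).symm a))).trans ?_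
        refine (map_smul (g B) _ _).trans ?_
        refine (congrArg (fun z : Γ(M, U') => _ • z) ha).trans ?_
        refine (resM_smul M h r _).symm.trans (congrArg (resM M h) ?_)
        exact ((congrArg (g A) (map_smul (φ A).symm r a)).trans (map_smul (g A) _ _)).symm)
  exact ⟨f, fun A v => (hf A.1 A.2 _).trans (hg A v)⟩

section basis

variable {n : ℕ} {U : X.Opens} {b : ULift.{u} (Fin n) → Γ(V, U)}

/-- The wedges of a basis. -/
noncomputable def wedgeFamily (b : ULift.{u} (Fin n) → Γ(V, U)) (hU : IsAffineOpen U)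
    (s : ULift.{u} (Set.powersetCard (Fin n) q)) : Γ(L, U) :=
  wedge φ ⟨U, hU⟩ fun k => b ⟨Set.powersetCard.ofFinEmbEquiv.symm s.down k⟩

include hφ in
theorem isBasisOn_wedgeFamily (hb : IsBasisOn V U b) (hU : IsAffineOpen U) :
    IsBasisOn L U (wedgeFamily φ b hU) := by
  classical
  refine isBasisOn_of_affine _ fun A hA hAa => ?_
  let A' : X.affineOpens := ⟨A, hAa⟩
  let bA : Module.Basis (Fin n) Γ(X, A) (V.val.obj (op A)) :=
    (moduleBasisOfIsBasisOn (FinCovLib29.isBasisOn_restrict hb hA)).reindex Equiv.ulift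
  have hbA : ∀ j, (show Γ(V, A) from bA j) = resM V hA (b ⟨j⟩) := fun j => by
    show (show Γ(V, A) from (moduleBasisOfIsBasisOn (FinCovLib29.isBasisOn_restrict hb hA)).reindex Equiv.ulift j) = _
    rw [Module.Basis.reindex_apply, moduleBasisOfIsBasisOn, Module.Basis.ofEquivFun]
    simp [Fintype.linearCombination_apply, Pi.single_apply, ite_smul]
  let B := (bA.exteriorPower q).map (φ A').symm
  have hB : ∀ s, (show Γ(L, A) from B s) = resM L hA (wedgeFamily φ b hU ⟨s⟩) := fun s => by
    show (show Γ(L, A) from (φ A').symm ((bA.exteriorPower q) s)) = _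
    rw [exteriorPower.basis_apply, wedgeFamily, wedge_res φ hφ (A := ⟨U, hU⟩) (B := A') hA]
    show (φ A').symm _ = (φ A').symm _
    rw [exteriorPower.ιMulti_family]
    exact congrArg (fun v => (φ A').symm (exteriorPower.ιMulti Γ(X, A) q v)) (funext fun k => hbA _)
  have h1 := B.equivFun.symm.bijective.comp
    (Equiv.arrowCongr Equiv.ulift (Equiv.refl Γ(X, A))).bijective
  suffices hs : (fun c : ULift.{u} (Set.powersetCard (Fin n) q) → Γ(X, A) =>
      ∑ i, c i • resM L hA (wedgeFamily φ b hU i)) = fun c =>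
      (show Γ(L, A) from B.equivFun.symm (Equiv.arrowCongr Equiv.ulift (Equiv.refl Γ(X, A)) c)) by
    rw [hs]
    exact h1
  funext c
  refine Eq.trans ?_ (Module.Basis.equivFun_symm_apply B _).symm
  refine Fintype.sum_equiv Equiv.ulift _ _ fun s => ?_
  exact congrArg (c s • ·) (hB s.down).symm

include hφ in
/-- An exterior power of a locally free module is locally free. -/
theorem isFinLocFreeOfRank_extPow (hV : FlatMod.IsFinLocFreeOfRank n V) :
    FlatMod.IsFinLocFreeOfRank (Fintype.card (Set.powersetCard (Fin n) q)) L := by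
  intro x
  obtain ⟨U₀, b₀, hx, hb₀⟩ := FinCovLib29.exists_isBasisOn_of_rank hV x
  obtain ⟨U, hU, hxU, hUU₀⟩ := Opens.isBasis_iff_nbhd.1 X.isBasis_affineOpens hx
  let σ : ULift.{u} (Fin (Fintype.card (Set.powersetCard (Fin n) q))) ≃ ULift.{u} (Set.powersetCard (Fin n) q) :=
    (Equiv.ulift.trans (Fintype.equivFin (Set.powersetCard (Fin n) q)).symm).trans Equiv.ulift.symm
  have h : IsBasisOn L U fun j => wedgeFamily φ (fun i => resM V hUU₀ (b₀ i)) hU (σ j) := fun W hW => by
    convert ((isBasisOn_wedgeFamily φ hφ (FinCovLib29.isBasisOn_restrict hb₀ hUU₀) hU) hW).comp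
      (Equiv.arrowCongr σ (Equiv.refl Γ(X, W))).bijective using 1
    funext c
    exact Fintype.sum_equiv σ _ _ fun j => by simp [Equiv.arrowCongr]
  exact ⟨U, hxU, exists_triv_of_isBasisOn h⟩

end basis

end Groth.Agent.GrassLib.PBundle
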