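import Groth.Agent.GrassLib.GrassExists
import Groth.Agent.GrassLib.PluckerOver
import Groth.Agent.GrassLib.Points
import Groth.Agent.Coherent.ProjSpaceFinite

/-!
# Grassmannians of locally free modules are proper
-/

set_option autoImplicit false
set_option linter.unusedSectionVars false
set_option linter.style.haveILetI false
set_option backward.isDefEq.respectTransparency.types false
set_option maxHeartbeats 1000000

universe u

open CategoryTheory CategoryTheory.Limits AlgebraicGeometry Opposite TopologicalSpace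
open Groth.Agent.Coherent Groth.Agent.PicLib

namespace Groth.Agent.GrassLib.PBundle

variable {X G : Scheme.{u}} {n e : ℕ}

instance isProper_Gr_from (n e : ℕ) [Fact (e ≤ n)] : IsProper (specULiftZIsTerminal.from (Gr.{u} n e)) := by
  obtain ⟨σ⟩ : Nonempty (Fin (n.choose e - 1 + 1) ≃ Sub n e) :=
    ⟨(Fintype.equivFinOfCardEq (card_sub.trans (Nat.sub_add_cancel (Nat.choose_pos Fact.out)).symm)).symm⟩
  haveI := Groth.Agent.Coherent.isProper_projSpace_toSpec (n.choose e - 1) (ULift.{u} ℤ)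
  haveI := isClosedImmersion_plucker.{u} (n.choose e - 1) σ
  rw [specULiftZIsTerminal.hom_ext (specULiftZIsTerminal.from (Gr.{u} n e))
    (plucker.{u} (n.choose e - 1) σ ≫ CohB1.ProjSpace.toSpec (n.choose e - 1) (ULift.{u} ℤ))]
  infer_instance

/-- A Grassmannian of a free module which is proper. -/
theorem exists_isGrass_free_proper (X : Scheme.{u}) (n e : ℕ) (he : e ≤ n) :
    ∃ (G : Scheme.{u}) (π : G ⟶ X) (Q : G.Modules)
      (q : (Scheme.Modules.pullback π).obj (freeMod X (ULift.{u} (Fin n))) ⟶ Q),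
      Grass.IsGrass π (freeMod X (ULift.{u} (Fin n))) e Q q ∧ IsProper π := by
  let a := specULiftZIsTerminal.from (Gr.{u} n e)
  let b := specULiftZIsTerminal.from X
  let p := pullback.fst a b
  let π := pullback.snd a b
  haveI := Fact.mk he
  have hproper : IsProper π := inferInstanceAs (IsProper (pullback.snd a b))
  let D := (univ n e).pull p
  refine ⟨pullback a b, π, D.L, qOf π D.t, ⟨D.isFinLocFreeOfRank, epi_qOf π D, fun T g L hL s hs => ?_⟩, hproper⟩
  haveI := hs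
  haveI := epi_valOf g s
  let Ds : Datum n e T := Datum.ofEpi hL (valOf g s)
  have hkey : ∀ (h : T ⟶ pullback a b) (hg : h ≫ π = g) (i : (Scheme.Modules.pullback h).obj D.L ≅ L),
      Grass.quotBC hg (qOf π D.t) ≫ i.hom = s ↔ ∀ j, i.hom.app ⊤ ((D.pull h).t j) = Ds.t j := by
    intro h hg i
    have h1 : ∀ j : ULift.{u} (Fin n), (Grass.quotBC hg (qOf π D.t) ≫ i.hom).app (g ⁻¹ᵁ ⊤)
        (pullSec g (unitVal (freeInj j) ⊤)) = i.hom.app ⊤ ((D.pull h).t j.down) := fun j => by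
      show i.hom.app _ ((Grass.quotBC hg (qOf π D.t)).app _ _) = _
      rw [quotBC_app_pullSec, qOf_app]
      rfl
    refine ⟨fun h2 j => ?_, fun h2 => hom_ext_free g _ _ fun j => ?_⟩
    · rw [← h1 ⟨j⟩, h2]
      rfl
    · rw [h1, h2]
      rfl
  obtain ⟨g₀, hg₀, hg₀'⟩ := existsUnique_hom Ds
  let h₀ : T ⟶ pullback a b := pullback.lift g₀ g (specULiftZIsTerminal.hom_ext _ _)
  have hD : ∀ h : T ⟶ pullback a b, (D.pull h).ker = ((univ n e).pull (h ≫ p)).ker := fun h =>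
    (Datum.pull_comp_ker (univ n e) p h).symm
  obtain ⟨i, hi⟩ := (D.pull h₀).exists_iso Ds (by rw [hD, show h₀ ≫ p = g₀ from pullback.lift_fst _ _ _, hg₀])
  refine ⟨h₀, ⟨pullback.lift_snd _ _ _, i, (hkey h₀ _ i).2 hi⟩, ?_⟩
  rintro h ⟨hg, i', hi'⟩
  refine pullback.hom_ext ?_ (hg.trans (pullback.lift_snd _ _ _).symm)
  rw [pullback.lift_fst]
  refine hg₀' _ ?_
  show ((univ n e).pull (h ≫ p)).ker = Ds.ker
  rw [← hD]
  exact (D.pull h).ker_eq_of_iso Ds i' ((hkey h hg i').1 hi')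

variable {E : X.Modules} {π : G ⟶ X} {Q : G.Modules} {q : (Scheme.Modules.pullback π).obj E ⟶ Q}

/-- The universal quotient over an open of the base. -/
noncomputable def qRes (q : (Scheme.Modules.pullback π).obj E ⟶ Q) (U : X.Opens) :
    (Scheme.Modules.pullback (π ∣_ U)).obj ((Scheme.Modules.pullback U.ι).obj E) ⟶
      (Scheme.Modules.pullback (π ⁻¹ᵁ U).ι).obj Q :=
  (Scheme.Modules.pullbackComp (π ∣_ U) U.ι).hom.app E ≫
    Grass.quotBC (show (π ⁻¹ᵁ U).ι ≫ π = (π ∣_ U) ≫ U.ι from (morphismRestrict_ι π U).symm) q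

/-- Grassmannians restrict to opens of the base. -/
theorem isGrass_restrict (hG : Grass.IsGrass π E e Q q) (U : X.Opens) :
    Grass.IsGrass (π ∣_ U) ((Scheme.Modules.pullback U.ι).obj E) e
      ((Scheme.Modules.pullback (π ⁻¹ᵁ U).ι).obj Q) (qRes q U) := by
  haveI := hG.epi
  haveI : Epi (Grass.quotBC (show (π ⁻¹ᵁ U).ι ≫ π = (π ∣_ U) ≫ U.ι from (morphismRestrict_ι π U).symm) q) :=
    epi_quotBC q _
  refine ⟨isFinLocFreeOfRank_pullback _ hG.rank, ?_, fun T g L hL s hs => ?_⟩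
  · exact epi_comp _ _
  haveI := hs
  let ι' := (π ⁻¹ᵁ U).ι
  let σ : (Scheme.Modules.pullback (g ≫ U.ι)).obj E ⟶ L := (Scheme.Modules.pullbackComp g U.ι).inv.app E ≫ s
  haveI : Epi σ := epi_comp _ _
  have hq : (Scheme.Modules.pullbackComp (π ∣_ U) U.ι).inv.app E ≫ qRes q U =
      Grass.quotBC (show ι' ≫ π = (π ∣_ U) ≫ U.ι from (morphismRestrict_ι π U).symm) q := by
    simp [qRes, ι']
  have hiff : ∀ (t : T ⟶ (π ⁻¹ᵁ U).toScheme) (ht : t ≫ (π ∣_ U) = g),
      (∃ i : (Scheme.Modules.pullback t).obj ((Scheme.Modules.pullback ι').obj Q) ≅ L,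
          Grass.quotBC ht (qRes q U) ≫ i.hom = s) ↔
        ∃ j : (Scheme.Modules.pullback (t ≫ ι')).obj Q ≅ L,
          Grass.quotBC (show (t ≫ ι') ≫ π = g ≫ U.ι by
            rw [Category.assoc, ← morphismRestrict_ι π U, ← Category.assoc, ht]) q ≫ j.hom = σ := by
    intro t ht
    have h : t ≫ (π ∣_ U) ≫ U.ι = g ≫ U.ι := by rw [← Category.assoc, ht]
    have h2 := quotBC_comp q (show ι' ≫ π = (π ∣_ U) ≫ U.ι from (morphismRestrict_ι π U).symm) h
      (show (t ≫ ι') ≫ π = g ≫ U.ι by rw [Category.assoc, ← morphismRestrict_ι π U, h])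
    have h3 : ∀ i : (Scheme.Modules.pullback t).obj ((Scheme.Modules.pullback ι').obj Q) ≅ L,
        Grass.quotBC h ((Scheme.Modules.pullbackComp (π ∣_ U) U.ι).inv.app E ≫ qRes q U) ≫ i.hom = σ ↔
          Grass.quotBC ht (qRes q U) ≫ i.hom = s := fun i => by
      rw [piece_iff (g := g) rfl ht h i σ]
      constructor <;> intro h4 <;> rw [h4] <;> simp [σ, Scheme.Modules.pullbackCongr]
    constructor
    · rintro ⟨i, hi⟩
      refine ⟨((Scheme.Modules.pullbackComp t ι').app Q).symm ≪≫ i, ?_⟩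
      have := (h3 i).2 hi
      rw [hq, ← h2] at this
      simpa using this
    · rintro ⟨j, hj⟩
      refine ⟨(Scheme.Modules.pullbackComp t ι').app Q ≪≫ j, (h3 _).1 ?_⟩
      rw [hq, ← h2]
      simp only [Iso.trans_hom, Category.assoc, Iso.app_hom, Iso.inv_hom_id_app_assoc]
      exact hj
  obtain ⟨r, ⟨hr, j, hj⟩, huniq⟩ := hG.univ T (g ≫ U.ι) L hL σ inferInstance
  have hrange : Set.range r ⊆ Set.range ι' := by
    rintro _ ⟨x, rfl⟩
    rw [Scheme.Opens.range_ι]
    show π (r x) ∈ U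
    rw [show π (r x) = U.ι (g x) from congr($(hr) x)]
    exact (g x).2
  let t : T ⟶ (π ⁻¹ᵁ U).toScheme := IsOpenImmersion.lift ι' r hrange
  have htr : t ≫ ι' = r := IsOpenImmersion.lift_fac _ _ _
  have ht : t ≫ (π ∣_ U) = g := by
    rw [← cancel_mono U.ι, Category.assoc, morphismRestrict_ι, ← Category.assoc, htr, hr]
  refine ⟨t, ⟨ht, (hiff t ht).2 ?_⟩, ?_⟩
  · have key : ∀ (r' : T ⟶ G) (hr' : r' ≫ π = g ≫ U.ι), r' = r →
        ∃ j : (Scheme.Modules.pullback r').obj Q ≅ L, Grass.quotBC hr' q ≫ j.hom = σ := by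
      rintro r' hr' rfl
      exact ⟨j, hj⟩
    exact key _ _ htr
  · rintro t' ⟨ht', hi'⟩
    rw [← cancel_mono ι', htr]
    exact huniq _ ⟨_, (hiff t' ht').1 hi'⟩

/-- Grassmannians of quotients of free modules are proper. -/
theorem isProper_of_isGrass (hG : Grass.IsGrass π E e Q q) [Coh.IsQCoh E]
    (hloc : ∀ x : X, ∃ (U : X.Opens) (n : ℕ), x ∈ U ∧ e ≤ n ∧
      ∃ v : freeMod U.toScheme (ULift.{u} (Fin n)) ⟶ (Scheme.Modules.pullback U.ι).obj E, Epi v) :
    IsProper π := by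
  choose U n hx hn v hv using hloc
  refine IsZariskiLocalAtTarget.of_iSup_eq_top U (eq_top_iff.2 fun x _ => Opens.mem_iSup.2 ⟨x, hx x⟩) fun x => ?_
  haveI := hv x
  obtain ⟨G₁, π₁, Q₁, q₁, hG₁, hπ₁⟩ := exists_isGrass_free_proper (U x).toScheme (n x) e (hn x)
  haveI := hπ₁
  haveI : IsClosedImmersion (hG₁.mapOfEpi (isGrass_restrict hG (U x)) (v x)) :=
    isClosedImmersion_mapOfEpi hG₁ _ (v x) isQCoh_freeMod (EGA43.InjFibre.isQCoh_pullback (U x).ι E)
  rw [← hG₁.mapOfEpi_comp (isGrass_restrict hG (U x)) (v x)]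
  infer_instance

/-- Grassmannians of locally free modules are proper. -/
theorem isProper_of_isGrass_of_rank {n : ℕ} (hE : FlatMod.IsFinLocFreeOfRank n E) (he : e ≤ n)
    (hG : Grass.IsGrass π E e Q q) : IsProper π := by
  haveI : Coh.IsQCoh E := LocFreeLib.isQCoh_of_isFinLocFreeOfRank hE
  refine isProper_of_isGrass hG fun x => ?_
  obtain ⟨U, hx, ⟨i⟩⟩ := hE x
  exact ⟨U, n, hx, he, (Props12.freeModIso U.toScheme n).hom ≫ i.inv ≫
    ((Scheme.Modules.restrictFunctorIsoPullback U.ι).app E).hom, inferInstance⟩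

end Groth.Agent.GrassLib.PBundle
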