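import Groth.Agent.GrassLib.PBundle.Classify
import Groth.Agent.GrassLib.GrassExists

/-!
# Charts of points of a Grassmannian bundle and their Pluecker images
-/

set_option autoImplicit false
set_option linter.unusedSectionVars false
set_option linter.style.haveILetI false
set_option backward.isDefEq.respectTransparency.types false
set_option maxHeartbeats 1000000

universe u

open CategoryTheory CategoryTheory.Limits AlgebraicGeometry Opposite TopologicalSpace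
open Groth.Agent.Coherent Groth.Agent.PicLib Groth.Agent.AmpleLib

namespace Groth.Agent.GrassLib.PBundle

variable {X : Scheme.{u}}

/-- Isomorphisms carry bases to bases. -/
theorem isBasisOn_of_iso {I : Type u} [Fintype I] {M N : X.Modules} (i : M ≅ N) {U : X.Opens}
    {e : I → Γ(M, U)} {e' : I → Γ(N, U)} (he : ∀ k, i.hom.app U (e k) = e' k) (hb : IsBasisOn M U e) :
    IsBasisOn N U e' := by
  intro W hW
  convert (ConcreteCategory.bijective_of_isIso (C := AddCommGrpCat) (i.hom.app W)).comp (hb hW) using 1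
  funext c
  rw [Function.comp_apply, map_sum]
  exact Finset.sum_congr rfl fun k _ => by rw [Scheme.Modules.Hom.app_smul, app_resM, he]

section change

variable {N : X.Modules} {q : ℕ} {U : X.Opens} {ε ε' : ULift.{u} (Fin q) → Γ(N, U)}
  (hε : IsBasisOn N U ε) (hε' : IsBasisOn N U ε')

/-- The matrix of a change of basis. -/
noncomputable def changeMat : Matrix (Fin q) (Fin q) Γ(X, U) :=
  Matrix.of fun l k => hε'.coef le_rfl (ε ⟨l⟩) ⟨k⟩

theorem coef_change {W : X.Opens} (hW : W ≤ U) (x : Γ(N, W)) (k : Fin q) :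
    hε'.coef hW x ⟨k⟩ = ∑ l, hε.coef hW x ⟨l⟩ * X.presheaf.map (homOfLE hW).op (changeMat (ε := ε) hε' l k) := by
  let c : ULift.{u} (Fin q) → Γ(X, W) := fun k =>
    ∑ l, hε.coef hW x ⟨l⟩ * X.presheaf.map (homOfLE hW).op (changeMat (ε := ε) hε' l k.down)
  refine congrFun (hε'.coef_eq hW (c := c) ?_) ⟨k⟩
  conv_rhs => rw [← hε.coef_spec hW x]
  simp only [c, Finset.sum_smul, mul_smul]
  rw [Finset.sum_comm]
  refine Fintype.sum_equiv Equiv.ulift.symm _ _ fun l => ?_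
  rw [← Finset.smul_sum]
  refine congrArg (hε.coef hW x ⟨l⟩ • ·) ?_
  have h := congrArg (resM N hW) (hε'.coef_spec le_rfl (ε ⟨l⟩))
  simp only [map_sum, resM_smul, resM_resM] at h
  exact h

include hε in
theorem isUnit_det_changeMat : IsUnit (changeMat (ε := ε) hε').det := by
  classical
  suffices h : (changeMat (ε := ε') hε).det * (changeMat (ε := ε) hε').det = 1 from
    IsUnit.of_mul_eq_one_right _ h
  rw [← Matrix.det_mul, show changeMat (ε := ε') hε * changeMat (ε := ε) hε' = 1 from ?_, Matrix.det_one]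
  ext m k
  have h := coef_change hε hε' le_rfl (ε' ⟨m⟩) k
  rw [show (homOfLE (le_refl U)).op = 𝟙 _ from rfl] at h
  simp only [CategoryTheory.Functor.map_id, CommRingCat.id_apply] at h
  rw [Matrix.mul_apply]
  refine h.symm.trans ?_
  have h1 := congrFun (hε'.coef_self le_rfl (⟨m⟩ : ULift.{u} (Fin q))) ⟨k⟩
  rw [resM_self] at h1
  rw [h1, Matrix.one_apply]
  exact if_congr ⟨fun h => (congrArg ULift.down h).symm, fun h => congrArg ULift.up h.symm⟩ rfl rfl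

end change

variable {G T T' P : Scheme.{u}} {n q : ℕ} {V L : X.Modules}
  {π : G ⟶ X} {Q : G.Modules} (qu : (Scheme.Modules.pullback π).obj V ⟶ Q)

/-- The values of sections at a point. -/
noncomputable def vvT (t : T ⟶ G) :
    V ⟶ (Scheme.Modules.pushforward (t ≫ π)).obj ((Scheme.Modules.pullback t).obj Q) :=
  (Scheme.Modules.pullbackPushforwardAdjunction (t ≫ π)).homEquiv _ _
    (Grass.quotBC (h := t) (g := t ≫ π) rfl qu)

/-- The value of a section on the bundle. -/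
noncomputable def qval (A : X.Opens) (x : Γ(V, A)) : Γ(Q, π ⁻¹ᵁ A) := qu.app (π ⁻¹ᵁ A) (pullSec π x)

theorem vvT_app (t : T ⟶ G) (A : X.Opens) (x : Γ(V, A)) :
    (show Γ((Scheme.Modules.pullback t).obj Q, (t ≫ π) ⁻¹ᵁ A) from (vvT qu t).app A x) =
      pullSec t (qval qu A x) := by
  show (Grass.quotBC (h := t) (g := t ≫ π) rfl qu).app ((t ≫ π) ⁻¹ᵁ A) (pullSec (t ≫ π) x) = _
  have h0 : Grass.quotBC (rfl : t ≫ π = t ≫ π) qu =
      (Scheme.Modules.pullbackComp t π).inv.app V ≫ (Scheme.Modules.pullback t).map qu := by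
    simp [Grass.quotBC, GrassLib.pullbackCongr_inv_app]
  rw [h0]
  refine Eq.trans ?_ (RelVALib.map_app_pullSec t qu (π ⁻¹ᵁ A) (pullSec π x))
  exact congrArg (((Scheme.Modules.pullback t).map qu).app (t ⁻¹ᵁ (π ⁻¹ᵁ A)))
    (Coherent.pullbackComp_inv_app_pullSec t π V A x)

/-- The sections of a frame. -/
noncomputable def frameOf (t : T ⟶ G) (A : X.Opens) (b : ULift.{u} (Fin n) → Γ(V, A))
    (hA : (⊤ : T.Opens) ≤ (t ≫ π) ⁻¹ᵁ A) (I : Fin q → Fin n) (k : ULift.{u} (Fin q)) :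
    Γ((Scheme.Modules.pullback t).obj Q, ⊤) :=
  resM _ hA (show Γ((Scheme.Modules.pullback t).obj Q, (t ≫ π) ⁻¹ᵁ A) from (vvT qu t).app A (b ⟨I k.down⟩))

variable (n q) in
/-- A point together with a frame given by values of a basis. -/
structure Chart (t : T ⟶ G) where
  A : X.affineOpens
  b : ULift.{u} (Fin n) → Γ(V, A.1)
  hb : IsBasisOn V A.1 b
  hA : (⊤ : T.Opens) ≤ (t ≫ π) ⁻¹ᵁ A.1
  I : Fin q → Fin n
  frame : IsBasisOn ((Scheme.Modules.pullback t).obj Q) ⊤ (frameOf qu t A.1 b hA I)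

variable {qu}

namespace Chart

variable {t : T ⟶ G} (C : Chart n q qu t)

/-- The coordinates in the frame. -/
noncomputable def coord (A : X.Opens) (x : Γ(V, A)) : Fin q → Γ(T, (t ≫ π) ⁻¹ᵁ A) :=
  coefV (vvT qu t) C.frame A x

/-- The minors in the frame. -/
noncomputable def minor (A : X.Opens) (v : Fin q → Γ(V, A)) : Γ(T, (t ≫ π) ⁻¹ᵁ A) :=
  minorVal (vvT qu t) C.frame A v

theorem coord_self (l : Fin q) : C.coord C.A.1 (C.b ⟨C.I l⟩) = fun k => if k = l then 1 else 0 := by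
  funext k
  have h := congrFun (C.frame.coef_self (le_top : (t ≫ π) ⁻¹ᵁ C.A.1 ≤ ⊤) (⟨l⟩ : ULift.{u} (Fin q))) ⟨k⟩
  rw [frameOf, resM_resM, resM_self] at h
  exact h.trans (if_congr ⟨fun h => congrArg ULift.down h, fun h => congrArg ULift.up h⟩ rfl rfl)

theorem minor_self : C.minor C.A.1 (fun l => C.b ⟨C.I l⟩) = 1 := by
  show Matrix.det (Matrix.of fun a k => C.coord C.A.1 (C.b ⟨C.I a⟩) k) = 1
  rw [show (Matrix.of fun a k => C.coord C.A.1 (C.b ⟨C.I a⟩) k) = 1 from ?_, Matrix.det_one]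
  ext a k
  rw [Matrix.of_apply, congrFun (C.coord_self a) k, Matrix.one_apply]
  exact if_congr eq_comm rfl rfl

/-- A chart along a morphism. -/
theorem exists_pull (s : T' ⟶ T) :
    ∃ C' : Chart n q qu (s ≫ t), ∀ (A : X.Opens) (x : Γ(V, A)) (k : Fin q),
      C'.coord A x k = s.app ((t ≫ π) ⁻¹ᵁ A) (C.coord A x k) := by
  obtain ⟨c, hc⟩ := RelVALib.exists_compIso s t (s ≫ t) rfl Q
  have hval : ∀ (A : X.Opens) (x : Γ(V, A)),
      c.hom.app _ (show Γ((Scheme.Modules.pullback (s ≫ t)).obj Q, ((s ≫ t) ≫ π) ⁻¹ᵁ A) from (vvT qu (s ≫ t)).app A x) =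
        pullSec s (show Γ((Scheme.Modules.pullback t).obj Q, (t ≫ π) ⁻¹ᵁ A) from (vvT qu t).app A x) := by
    intro A x
    rw [vvT_app, vvT_app]
    exact (hc (π ⁻¹ᵁ A) (qval qu A x) le_rfl).trans (resM_self _ _ _)
  have hA' : (⊤ : T'.Opens) ≤ ((s ≫ t) ≫ π) ⁻¹ᵁ C.A.1 := fun y _ => C.hA (Set.mem_univ (s y))
  have hframe : ∀ k, c.hom.app ⊤ (frameOf qu (s ≫ t) C.A.1 C.b hA' C.I k) =
      pullSec s (frameOf qu t C.A.1 C.b C.hA C.I k) := fun k => by
    rw [frameOf, frameOf, app_resM, hval, ← resM_pullSec]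
    rfl
  let C' : Chart n q qu (s ≫ t) :=
    { A := C.A
      b := C.b
      hb := C.hb
      hA := hA'
      I := C.I
      frame := isBasisOn_of_iso c.symm (fun k => by
        rw [← hframe k]
        exact congrArg (fun g : (Scheme.Modules.pullback (s ≫ t)).obj Q ⟶ _ => g.app ⊤ _) c.hom_inv_id)
        (IsBasisOn.pull s C.frame) }
  refine ⟨C', fun A x k => ?_⟩
  refine congrFun (C'.frame.coef_eq _ (c := fun k => s.app _ (C.coord A x k.down)) ?_) ⟨k⟩
  refine (ConcreteCategory.bijective_of_isIso (C := AddCommGrpCat) (c.hom.app (((s ≫ t) ≫ π) ⁻¹ᵁ A))).1 ?_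
  refine Eq.trans ?_ (hval A x).symm
  refine (map_sum (c.hom.app (((s ≫ t) ≫ π) ⁻¹ᵁ A)).hom _ _).trans ?_
  have hs : pullSec s (show Γ((Scheme.Modules.pullback t).obj Q, (t ≫ π) ⁻¹ᵁ A) from (vvT qu t).app A x) =
      ∑ i, s.app _ (C.coord A x i.down) •
        pullSec s (resM _ (le_top : (t ≫ π) ⁻¹ᵁ A ≤ ⊤) (frameOf qu t C.A.1 C.b C.hA C.I i)) := by
    conv_lhs => rw [← C.frame.coef_spec (le_top : (t ≫ π) ⁻¹ᵁ A ≤ ⊤)
      (show Γ((Scheme.Modules.pullback t).obj Q, (t ≫ π) ⁻¹ᵁ A) from (vvT qu t).app A x)]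
    rw [Datum.pullSec_sum]
    exact Finset.sum_congr rfl fun i _ => pullSec_smul s _ _
  refine Eq.trans ?_ hs.symm
  refine Finset.sum_congr rfl fun i _ => ?_
  refine (Scheme.Modules.Hom.app_smul c.hom _ _).trans ?_
  refine congrArg (fun z : Γ((Scheme.Modules.pullback s).obj ((Scheme.Modules.pullback t).obj Q),
    s ⁻¹ᵁ ((t ≫ π) ⁻¹ᵁ A)) => s.app _ (C.coord A x i.down) • z) ?_
  show c.hom.app _ (resM _ _ (frameOf qu (s ≫ t) C.A.1 C.b hA' C.I i)) = _
  rw [app_resM, hframe i, ← resM_pullSec]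
  rfl

variable (φ : ∀ U : X.affineOpens, (L.val.obj (op U.1)) ≃ₗ[Γ(X, U.1)] ↥(⋀[Γ(X, U.1)]^q (V.val.obj (op U.1))))
  (hφ : ∀ (U U' : X.affineOpens) (h : U'.1 ≤ U.1) (e : Fin q → V.val.obj (op U.1)),
      L.val.map (homOfLE h).op ((φ U).symm (exteriorPower.ιMulti _ q e)) =
        (φ U').symm (exteriorPower.ιMulti _ q (fun j => V.val.map (homOfLE h).op (e j))))
  {πP : P ⟶ X} {O1 : P.Modules} {u₁ : (Scheme.Modules.pullback πP).obj L ⟶ O1}

/-- The map of minors. -/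
noncomputable def mu : L ⟶ (Scheme.Modules.pushforward (t ≫ π)).obj (Coh.structureModule T) :=
  (exists_isMinorHom φ (vvT qu t) C.frame hφ).choose

theorem isMinorHom_mu : IsMinorHom φ (vvT qu t) C.frame (C.mu φ hφ) :=
  (exists_isMinorHom φ (vvT qu t) C.frame hφ).choose_spec

include hφ in
theorem existsUnique_cls (hP : KRR.IsProjBundle πP L O1 u₁) : ∃! r : T ⟶ P, Cls u₁ (t ≫ π) (C.mu φ hφ) r := by
  refine PBundle.existsUnique_cls hP _ _ (exists_gen_of_isMinorHom φ _ _ (C.isMinorHom_mu φ hφ) fun x => ?_)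
  refine ⟨C.A, fun l => C.b ⟨C.I l⟩, ?_⟩
  rw [show minorVal (vvT qu t) C.frame C.A.1 (fun l => C.b ⟨C.I l⟩) = 1 from C.minor_self,
    Scheme.basicOpen_of_isUnit _ isUnit_one]
  exact C.hA (Set.mem_univ x)

variable (hP : KRR.IsProjBundle πP L O1 u₁)

/-- The Pluecker point of a chart. -/
noncomputable def cl : T ⟶ P := (C.existsUnique_cls φ hφ hP).exists.choose

theorem cls_cl : Cls u₁ (t ≫ π) (C.mu φ hφ) (C.cl φ hφ hP) :=
  (C.existsUnique_cls φ hφ hP).exists.choose_spec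

include hP in
theorem eq_cl {r : T ⟶ P} (h : Cls u₁ (t ≫ π) (C.mu φ hφ) r) : r = C.cl φ hφ hP :=
  (C.existsUnique_cls φ hφ hP).unique h (C.cls_cl φ hφ hP)

/-- The Pluecker point does not depend on the chart. -/
theorem cl_eq (C' : Chart n q qu t) : C.cl φ hφ hP = C'.cl φ hφ hP := by
  refine C'.eq_cl φ hφ hP ((C.cls_cl φ hφ hP).scale (changeMat (ε := frameOf qu t C.A.1 C.b C.hA C.I) C'.frame).det
    (isUnit_det_changeMat C.frame C'.frame) fun U hU e => ?_)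
  let d := T.presheaf.map (homOfLE (le_top : (t ≫ π) ⁻¹ᵁ U ≤ ⊤)).op
    (changeMat (ε := frameOf qu t C.A.1 C.b C.hA C.I) C'.frame).det
  refine sec_induction φ ⟨U, hU⟩ (motive := fun e => (show Γ(T, (t ≫ π) ⁻¹ᵁ U) from (C'.mu φ hφ).app U e) =
    d * (show Γ(T, (t ≫ π) ⁻¹ᵁ U) from (C.mu φ hφ).app U e)) ?_ ?_ ?_ (fun v => ?_) e
  · rw [show (show Γ(T, (t ≫ π) ⁻¹ᵁ U) from (C'.mu φ hφ).app U (0 : Γ(L, U))) = 0 from map_zero _,
      show (show Γ(T, (t ≫ π) ⁻¹ᵁ U) from (C.mu φ hφ).app U (0 : Γ(L, U))) = 0 from map_zero _, mul_zero]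
  · intro x y hx hy
    rw [show (show Γ(T, (t ≫ π) ⁻¹ᵁ U) from (C'.mu φ hφ).app U (x + y)) = (show Γ(T, (t ≫ π) ⁻¹ᵁ U) from (C'.mu φ hφ).app U x) +
        (show Γ(T, (t ≫ π) ⁻¹ᵁ U) from (C'.mu φ hφ).app U y) from map_add _ _ _,
      show (show Γ(T, (t ≫ π) ⁻¹ᵁ U) from (C.mu φ hφ).app U (x + y)) = (show Γ(T, (t ≫ π) ⁻¹ᵁ U) from (C.mu φ hφ).app U x) +
        (show Γ(T, (t ≫ π) ⁻¹ᵁ U) from (C.mu φ hφ).app U y) from map_add _ _ _, mul_add, hx, hy]
  · intro a x hx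
    rw [show (show Γ(T, (t ≫ π) ⁻¹ᵁ U) from (C'.mu φ hφ).app U (a • x)) = (t ≫ π).app U a *
        (show Γ(T, (t ≫ π) ⁻¹ᵁ U) from (C'.mu φ hφ).app U x) from Scheme.Modules.Hom.app_smul _ a x,
      show (show Γ(T, (t ≫ π) ⁻¹ᵁ U) from (C.mu φ hφ).app U (a • x)) = (t ≫ π).app U a *
        (show Γ(T, (t ≫ π) ⁻¹ᵁ U) from (C.mu φ hφ).app U x) from Scheme.Modules.Hom.app_smul _ a x, hx]
    ring
  · rw [C'.isMinorHom_mu φ hφ ⟨U, hU⟩ v, C.isMinorHom_mu φ hφ ⟨U, hU⟩ v]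
    show Matrix.det _ = d * Matrix.det _
    simp only [d, RingHom.map_det]
    rw [mul_comm, ← Matrix.det_mul]
    congr 1
    ext a k
    rw [Matrix.mul_apply]
    exact coef_change C.frame C'.frame _ _ k

/-- The Pluecker point along a morphism. -/
theorem cl_comp (s : T' ⟶ T) (C' : Chart n q qu (s ≫ t)) : C'.cl φ hφ hP = s ≫ C.cl φ hφ hP := by
  obtain ⟨C'', hC''⟩ := C.exists_pull s
  rw [C'.cl_eq φ hφ hP C'']
  refine (C''.eq_cl φ hφ hP ((C.cls_cl φ hφ hP).comp φ s (Category.assoc _ _ _).symm _ fun A v hle => ?_)).symm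
  have h2 : C''.minor A.1 v = s.app ((t ≫ π) ⁻¹ᵁ A.1) (C.minor A.1 v) := by
    simp only [minor, minorVal]
    refine Eq.trans ?_ ((s.app ((t ≫ π) ⁻¹ᵁ A.1)).hom.map_det _).symm
    congr 1
    ext a k
    exact hC'' A.1 (v a) k
  have h3 : T'.presheaf.map (homOfLE hle).op (s.app ((t ≫ π) ⁻¹ᵁ A.1) (C.minor A.1 v)) =
      s.app ((t ≫ π) ⁻¹ᵁ A.1) (C.minor A.1 v) :=
    ConcreteCategory.congr_hom (T'.presheaf.map_id (op (s ⁻¹ᵁ ((t ≫ π) ⁻¹ᵁ A.1)))) _
  exact (C''.isMinorHom_mu φ hφ A v).trans ((h2.trans h3.symm).trans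
    (congrArg (fun z => T'.presheaf.map (homOfLE hle).op (s.app _ z)) (C.isMinorHom_mu φ hφ A v).symm))

end Chart

end Groth.Agent.GrassLib.PBundle
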