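import Groth.Agent.GrassLib.PBundle.MinorHom
import Groth.Prelude.Def_KRR

/-!
# Points of projective bundles given by maps to the structure sheaf
-/

set_option autoImplicit false
set_option linter.unusedSectionVars false
set_option linter.style.haveILetI false
set_option backward.isDefEq.respectTransparency.types false
set_option maxHeartbeats 1000000

universe u

open CategoryTheory CategoryTheory.Limits AlgebraicGeometry Opposite TopologicalSpace
open Groth.Agent.Coherent Groth.Agent.PicLib Groth.Agent.AmpleLib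

namespace Groth.Agent.GrassLib.PBundle

variable {X T T' P : Scheme.{u}} {q : ℕ} {V L : X.Modules}
  (φ : ∀ U : X.affineOpens, (L.val.obj (op U.1)) ≃ₗ[Γ(X, U.1)] ↥(⋀[Γ(X, U.1)]^q (V.val.obj (op U.1))))

/-- Properties of sections of an exterior power are tested on wedges. -/
theorem sec_induction (A : X.affineOpens) {motive : Γ(L, A.1) → Prop} (h0 : motive 0)
    (hadd : ∀ x y, motive x → motive y → motive (x + y)) (hsmul : ∀ (r : Γ(X, A.1)) x, motive x → motive (r • x))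
    (h : ∀ v, motive (wedge φ A v)) (x : Γ(L, A.1)) : motive x := by
  obtain ⟨y, rfl⟩ : ∃ y, (φ A).symm y = x := (φ A).symm.surjective x
  have hy : y ∈ Submodule.span Γ(X, A.1) (Set.range (exteriorPower.ιMulti Γ(X, A.1) q (M := V.val.obj (op A.1)))) := by
    rw [exteriorPower.ιMulti_span]; trivial
  induction hy using Submodule.span_induction with
  | mem y hy => obtain ⟨v, rfl⟩ := hy; exact h v
  | zero => rw [map_zero]; exact h0
  | add a b _ _ ha hb => rw [map_add]; exact hadd _ _ ha hb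
  | smul r a _ ha => rw [map_smul]; exact hsmul r _ ha

variable {π : P ⟶ X} {O1 : P.Modules} (u₁ : (Scheme.Modules.pullback π).obj L ⟶ O1)

/-- A morphism classifies a map to the structure sheaf. -/
def Cls (g : T ⟶ X) (μ : L ⟶ (Scheme.Modules.pushforward g).obj (Coh.structureModule T)) (r : T ⟶ P) : Prop :=
  ∃ (hr : r ≫ π = g) (τ : (Scheme.Modules.pullback r).obj O1 ≅ Coh.structureModule T),
    RelVALib.Classifies ((Scheme.Modules.pullbackPushforwardAdjunction π).homEquiv _ _ u₁) g μ r hr τ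

variable {u₁}

/-- Classifying morphisms exist and are unique. -/
theorem existsUnique_cls (hP : KRR.IsProjBundle π L O1 u₁) (g : T ⟶ X)
    (μ : L ⟶ (Scheme.Modules.pushforward g).obj (Coh.structureModule T))
    (hgen : ∀ x : T, ∃ (U : X.Opens) (e : Γ(L, U)) (W : T.Opens) (hW : W ≤ g ⁻¹ᵁ U),
      x ∈ W ∧ IsGen (Coh.structureModule T) W
        (resM (Coh.structureModule T) hW (show Γ(Coh.structureModule T, g ⁻¹ᵁ U) from μ.app U e))) :
    ∃! r : T ⟶ P, Cls u₁ g μ r := by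
  let A := (Scheme.Modules.pullbackPushforwardAdjunction g).homEquiv L (Coh.structureModule T)
  let φ₁ := (Scheme.Modules.pullbackPushforwardAdjunction π).homEquiv _ _ u₁
  have hiff : ∀ (r : T ⟶ P) (hr : r ≫ π = g) (τ : (Scheme.Modules.pullback r).obj O1 ≅ Coh.structureModule T),
      ((Scheme.Modules.pullbackCongr hr).inv.app L ≫ (Scheme.Modules.pullbackComp r π).inv.app L ≫
        (Scheme.Modules.pullback r).map u₁ ≫ τ.hom = A.symm μ) ↔ RelVALib.Classifies φ₁ g μ r hr τ := fun r hr τ => by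
    have h := RelVALib.classifies_iff (φ := φ₁) hr τ (A.symm μ)
    rw [show ((Scheme.Modules.pullbackPushforwardAdjunction π).homEquiv L O1).symm φ₁ = u₁ from
      Equiv.symm_apply_apply _ _, show (Scheme.Modules.pullbackPushforwardAdjunction g).homEquiv L _ (A.symm μ) = μ
        from Equiv.apply_symm_apply _ _] at h
    exact h
  obtain ⟨r, ⟨hr, τ, h⟩, huniq⟩ := hP.univ T g (Coh.structureModule T)
    (PicLib.isFinLocFreeOfRank_one AmpleLib.isInvertible_structureModule)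
    (A.symm μ) (RelVALib.epi_of_exists_gen g μ hgen)
  refine ⟨r, ⟨hr, τ, (hiff r hr τ).1 h⟩, ?_⟩
  rintro r' ⟨hr', τ', h'⟩
  exact huniq r' ⟨hr', τ', (hiff r' hr' τ').2 h'⟩

/-- Multiplying the map by a unit keeps the classifying morphism. -/
theorem Cls.scale {g : T ⟶ X} {μ μ' : L ⟶ (Scheme.Modules.pushforward g).obj (Coh.structureModule T)} {r : T ⟶ P}
    (h : Cls u₁ g μ r) (c : Γ(T, ⊤)) (hc : IsUnit c)
    (hμ : ∀ (U : X.Opens) (_ : IsAffineOpen U) (e : Γ(L, U)), (show Γ(T, g ⁻¹ᵁ U) from μ'.app U e) =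
      T.presheaf.map (homOfLE (le_top : g ⁻¹ᵁ U ≤ ⊤)).op c * (show Γ(T, g ⁻¹ᵁ U) from μ.app U e)) :
    Cls u₁ g μ' r := by
  obtain ⟨hr, τ, h⟩ := h
  subst hr
  obtain ⟨d, hd⟩ := hc.exists_left_inv
  let m : Γ(T, ⊤) → (Coh.structureModule T ⟶ Coh.structureModule T) := fun a =>
    unitDesc (Coh.structureModule T) (show Γ(Coh.structureModule T, ⊤) from a)
  have hm : ∀ (a : Γ(T, ⊤)) (W : T.Opens) (z : Γ(T, W)), (show Γ(T, W) from (m a).app W z) =
      z * T.presheaf.map (homOfLE (le_top : W ≤ ⊤)).op a := fun a W z => by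
    refine (app_unit (m a) z).trans ?_
    rw [unitVal_unitDesc]
    rfl
  have hmm : ∀ a b : Γ(T, ⊤), a * b = 1 → m a ≫ m b = 𝟙 _ := fun a b hab => Existence.unit_hom_ext (by
    show (show Γ(T, ⊤) from (m b).app ⊤ ((m a).app ⊤ (1 : Γ(T, ⊤)))) = (1 : Γ(T, ⊤))
    refine (hm b _ _).trans ?_
    refine (congrArg (· * _) (hm a ⊤ 1)).trans ?_
    rw [show (homOfLE (le_top : (⊤ : T.Opens) ≤ ⊤)).op = 𝟙 _ from rfl, CategoryTheory.Functor.map_id,
      CommRingCat.id_apply, CommRingCat.id_apply, one_mul, hab])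
  refine ⟨rfl, τ ≪≫ ⟨m c, m d, hmm c d (by rw [mul_comm, hd]), hmm d c hd⟩, fun U hU e => ?_⟩
  refine Eq.trans ?_ (resM_self (Coh.structureModule T) _
    (show Γ(Coh.structureModule T, (r ≫ π) ⁻¹ᵁ U) from μ'.app U e)).symm
  refine (congrArg ((m c).app _) ((h U hU e).trans (resM_self (Coh.structureModule T) _
    (show Γ(Coh.structureModule T, (r ≫ π) ⁻¹ᵁ U) from μ.app U e)))).trans ?_
  refine (hm c _ _).trans ((mul_comm _ _).trans ?_)
  exact (hμ U hU e).symm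

/-- Two classified maps differ by a unit. -/
theorem Cls.exists_unit {g : T ⟶ X} {μ μ' : L ⟶ (Scheme.Modules.pushforward g).obj (Coh.structureModule T)}
    {r : T ⟶ P} (h : Cls u₁ g μ r) (h' : Cls u₁ g μ' r) :
    ∃ c : Γ(T, ⊤), IsUnit c ∧ ∀ (U : X.Opens) (_ : IsAffineOpen U) (e : Γ(L, U)),
      (show Γ(T, g ⁻¹ᵁ U) from μ'.app U e) =
        T.presheaf.map (homOfLE (le_top : g ⁻¹ᵁ U ≤ ⊤)).op c * (show Γ(T, g ⁻¹ᵁ U) from μ.app U e) := by
  obtain ⟨hr, τ, h⟩ := h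
  obtain ⟨_, τ', h'⟩ := h'
  subst hr
  let a := τ.inv ≫ τ'.hom
  let b := τ'.inv ≫ τ.hom
  have key : ∀ (a b : Coh.structureModule T ⟶ Coh.structureModule T), a ≫ b = 𝟙 _ →
      (show Γ(T, ⊤) from unitVal a ⊤) * (show Γ(T, ⊤) from unitVal b ⊤) = 1 := fun a b hab => by
    refine (app_unit b (show Γ(T, ⊤) from unitVal a ⊤)).symm.trans ?_
    exact congrArg (fun f : Coh.structureModule T ⟶ Coh.structureModule T => unitVal f ⊤) hab
  refine ⟨unitVal a ⊤, IsUnit.of_mul_eq_one _ (key a b (by simp [a, b])), fun U hU e => ?_⟩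
  have h1 : a.app ((r ≫ π) ⁻¹ᵁ U) (μ.app U e) = μ'.app U e := by
    have e1 := (h U hU e).trans (resM_self (Coh.structureModule T) _
      (show Γ(Coh.structureModule T, (r ≫ π) ⁻¹ᵁ U) from μ.app U e))
    have e2 := (h' U hU e).trans (resM_self (Coh.structureModule T) _
      (show Γ(Coh.structureModule T, (r ≫ π) ⁻¹ᵁ U) from μ'.app U e))
    refine Eq.trans ?_ e2
    show τ'.hom.app _ (τ.inv.app _ (μ.app U e)) = _
    refine congrArg (τ'.hom.app _) ?_
    refine (congrArg (τ.inv.app _) e1.symm).trans ?_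
    exact congrArg (fun f : (Scheme.Modules.pullback r).obj O1 ⟶ _ => f.app _ _) τ.hom_inv_id
  refine h1.symm.trans ((app_unit a _).trans ?_)
  rw [← resM_unitVal a (le_top : (r ≫ π) ⁻¹ᵁ U ≤ ⊤)]
  exact mul_comm (show Γ(T, (r ≫ π) ⁻¹ᵁ U) from μ.app U e)
    (T.presheaf.map (homOfLE (le_top : (r ≫ π) ⁻¹ᵁ U ≤ ⊤)).op (show Γ(T, ⊤) from unitVal a ⊤))

/-- Composition of classifying morphisms. -/
theorem Cls.comp {g : T ⟶ X} {μ : L ⟶ (Scheme.Modules.pushforward g).obj (Coh.structureModule T)} {r : T ⟶ P}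
    (h : Cls u₁ g μ r) (s : T' ⟶ T) {k : T' ⟶ X} (hk : s ≫ g = k)
    (μ' : L ⟶ (Scheme.Modules.pushforward k).obj (Coh.structureModule T'))
    (hμ : ∀ (A : X.affineOpens) (v : Fin q → Γ(V, A.1)) (hle : k ⁻¹ᵁ A.1 ≤ s ⁻¹ᵁ (g ⁻¹ᵁ A.1)),
      (show Γ(T', k ⁻¹ᵁ A.1) from μ'.app A.1 (wedge φ A v)) =
        T'.presheaf.map (homOfLE hle).op (s.app _ (show Γ(T, g ⁻¹ᵁ A.1) from μ.app A.1 (wedge φ A v)))) :
    Cls u₁ k μ' (s ≫ r) := by
  obtain ⟨hr, τ, h⟩ := h
  obtain ⟨σ, hσ⟩ := exists_unitIso s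
  obtain ⟨τ', hτ'⟩ := h.comp s hk σ μ' fun U hU e hle => by
    refine Eq.trans ?_ (congrArg (resM (Coh.structureModule T') hle) (hσ _ (show Γ(T, g ⁻¹ᵁ U) from μ.app U e))).symm
    refine sec_induction φ ⟨U, hU⟩ (motive := fun e => (show Γ(T', k ⁻¹ᵁ U) from μ'.app U e) =
      T'.presheaf.map (homOfLE hle).op (s.app _ (show Γ(T, g ⁻¹ᵁ U) from μ.app U e))) ?_ ?_ ?_
      (fun v => hμ ⟨U, hU⟩ v hle) e
    · have z1 : (show Γ(T', k ⁻¹ᵁ U) from μ'.app U (0 : Γ(L, U))) = 0 := map_zero _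
      have z2 : (show Γ(T, g ⁻¹ᵁ U) from μ.app U (0 : Γ(L, U))) = 0 := map_zero _
      rw [z1, z2, map_zero, map_zero]
    · intro x y hx hy
      have z1 : (show Γ(T', k ⁻¹ᵁ U) from μ'.app U (x + y)) =
          (show Γ(T', k ⁻¹ᵁ U) from μ'.app U x) + (show Γ(T', k ⁻¹ᵁ U) from μ'.app U y) := map_add _ _ _
      have z2 : (show Γ(T, g ⁻¹ᵁ U) from μ.app U (x + y)) =
          (show Γ(T, g ⁻¹ᵁ U) from μ.app U x) + (show Γ(T, g ⁻¹ᵁ U) from μ.app U y) := map_add _ _ _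
      rw [z1, z2, map_add, map_add, hx, hy]
    · intro a x hx
      have z1 : (show Γ(T', k ⁻¹ᵁ U) from μ'.app U (a • x)) =
          k.app U a * (show Γ(T', k ⁻¹ᵁ U) from μ'.app U x) := Scheme.Modules.Hom.app_smul μ' a x
      have z2 : (show Γ(T, g ⁻¹ᵁ U) from μ.app U (a • x)) =
          g.app U a * (show Γ(T, g ⁻¹ᵁ U) from μ.app U x) := Scheme.Modules.Hom.app_smul μ a x
      rw [z1, z2, map_mul, map_mul, hx]
      refine congrArg (· * _) ?_
      subst hk
      rw [Scheme.Hom.comp_app]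
      exact (ConcreteCategory.congr_hom (T'.presheaf.map_id (op (s ⁻¹ᵁ (g ⁻¹ᵁ U)))) _).symm
  exact ⟨_, τ', hτ'⟩

end Groth.Agent.GrassLib.PBundle
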