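import Groth.Agent.GrassLib.PBundle.Chart
import Groth.Agent.GrassLib.PBundle.Proper

/-!
# The Pluecker embedding of a Grassmannian bundle
-/

set_option autoImplicit false
set_option linter.unusedSectionVars false
set_option linter.style.haveILetI false
set_option backward.isDefEq.respectTransparency.types false
set_option maxHeartbeats 1000000

universe u

open CategoryTheory CategoryTheory.Limits AlgebraicGeometry Opposite TopologicalSpace
open Groth.Agent.Coherent Groth.Agent.PicLib Groth.Agent.AmpleLib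

namespace Groth.Agent.GrassLib.PBundle

section bases

variable {T : Scheme.{u}} {M : T.Modules} {q : ℕ} {U : T.Opens}

/-- A family with unit determinant in a basis is a basis. -/
theorem isBasisOn_of_det {ε δ : ULift.{u} (Fin q) → Γ(M, U)} (hε : IsBasisOn M U ε)
    (h : IsUnit (Matrix.of fun l k => hε.coef le_rfl (δ ⟨l⟩) ⟨k⟩).det) : IsBasisOn M U δ := by
  intro W hW
  let N : Matrix (Fin q) (Fin q) Γ(T, W) := (Matrix.of fun l k => hε.coef le_rfl (δ ⟨l⟩) ⟨k⟩).map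
    (T.presheaf.map (homOfLE hW).op).hom
  have hN : IsUnit N.det := by
    have h1 := h.map (T.presheaf.map (homOfLE hW).op).hom
    rwa [RingHom.map_det] at h1
  have hbij : Function.Bijective fun c : Fin q → Γ(T, W) => Matrix.vecMul c N :=
    Function.bijective_iff_has_inverse.2 ⟨fun c => Matrix.vecMul c N⁻¹,
      fun c => by simp [Matrix.vecMul_vecMul, Matrix.mul_nonsing_inv _ hN],
      fun c => by simp [Matrix.vecMul_vecMul, Matrix.nonsing_inv_mul _ hN]⟩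
  let e : (ULift.{u} (Fin q) → Γ(T, W)) ≃ (Fin q → Γ(T, W)) := Equiv.arrowCongr Equiv.ulift (Equiv.refl _)
  convert (hε hW).comp (e.symm.bijective.comp (hbij.comp e.bijective)) using 1
  funext c
  simp only [Function.comp_apply]
  have hδ : ∀ i, resM M hW (δ i) = ∑ k, N i.down k.down • resM M hW (ε k) := fun i => by
    have h1 := congrArg (resM M hW) (hε.coef_spec le_rfl (δ i))
    simp only [map_sum, resM_smul, resM_resM] at h1
    exact h1.symm
  simp only [hδ, Finset.smul_sum, smul_smul]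
  rw [Finset.sum_comm]
  refine Finset.sum_congr rfl fun k _ => ?_
  rw [← Finset.sum_smul]
  refine congrArg (· • _) ?_
  show _ = Matrix.vecMul (fun l => c ⟨l⟩) N k.down
  exact Fintype.sum_equiv Equiv.ulift _ _ fun _ => rfl

variable {I : Type u} [Fintype I] {e : I → Γ(M, ⊤)}

/-- Maps out of a module with a basis agree once they agree on the basis. -/
theorem hom_ext_basis (he : IsBasisOn M ⊤ e) {N : T.Modules} (f g : M ⟶ N)
    (h : ∀ i, f.app ⊤ (e i) = g.app ⊤ (e i)) : f = g := by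
  refine Scheme.Modules.hom_ext _ _ fun W => ConcreteCategory.hom_ext _ _ fun x => ?_
  rw [← he.coef_spec (le_top : W ≤ ⊤) x, map_sum, map_sum]
  refine Finset.sum_congr rfl fun i _ => ?_
  rw [Scheme.Modules.Hom.app_smul, Scheme.Modules.Hom.app_smul, app_resM, app_resM, h]

/-- A basis gives an isomorphism with a free module. -/
theorem isIso_freeDesc_of_basis (he : IsBasisOn M ⊤ e) :
    IsIso (freeDesc fun i => unitDesc M (e i) : freeMod T I ⟶ M) := by
  classical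
  refine Scheme.Modules.Hom.isIso_iff_isIso_app.2 fun V => ?_
  refine (ConcreteCategory.isIso_iff_bijective _).2 ?_
  convert (he (le_top : V ≤ ⊤)).comp (freeSectionsEquiv (X := T) (I := I) V).bijective using 1
  funext c
  refine (freeMod_app _ c).trans (Finset.sum_congr rfl fun i _ => ?_)
  rw [freeInj_freeDesc, unitVal_unitDesc]
  rfl

/-- Two modules with bases are isomorphic, basis to basis. -/
theorem exists_iso_of_bases (he : IsBasisOn M ⊤ e) {N : T.Modules} {e' : I → Γ(N, ⊤)}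
    (he' : IsBasisOn N ⊤ e') : ∃ i : M ≅ N, ∀ k, i.hom.app ⊤ (e k) = e' k := by
  haveI := isIso_freeDesc_of_basis he
  haveI := isIso_freeDesc_of_basis he'
  let a : freeMod T I ⟶ M := freeDesc fun i => unitDesc M (e i)
  let b : freeMod T I ⟶ N := freeDesc fun i => unitDesc N (e' i)
  refine ⟨(asIso a).symm ≪≫ asIso b, fun k => ?_⟩
  have hk : a.app ⊤ (unitVal (freeInj k) ⊤) = e k := by
    show unitVal (freeInj k ≫ a) ⊤ = _
    rw [freeInj_freeDesc, unitVal_unitDesc, resM_self]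
  show b.app ⊤ ((inv a).app ⊤ (e k)) = _
  rw [← hk]
  refine (congrArg (b.app ⊤) (congrArg (fun g : freeMod T I ⟶ freeMod T I => g.app ⊤ (unitVal (freeInj k) ⊤))
    (IsIso.hom_inv_id a))).trans ?_
  show unitVal (freeInj k ≫ b) ⊤ = _
  rw [freeInj_freeDesc, unitVal_unitDesc, resM_self]

end bases

variable {X G T T' P : Scheme.{u}} {n q : ℕ} {V L : X.Modules}
  {π : G ⟶ X} {Q : G.Modules} {qu : (Scheme.Modules.pullback π).obj V ⟶ Q}

/-- A frame on an open gives charts of morphisms into it. -/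
theorem exists_chart_of_basisOn (t : T ⟶ G) (A : X.affineOpens) (b : ULift.{u} (Fin n) → Γ(V, A.1))
    (hb : IsBasisOn V A.1 b) (hA : (⊤ : T.Opens) ≤ (t ≫ π) ⁻¹ᵁ A.1) (I : Fin q → Fin n) (W : T.Opens)
    (hW : IsBasisOn ((Scheme.Modules.pullback t).obj Q) W fun k => resM _ le_top (frameOf qu t A.1 b hA I k))
    (s : T' ⟶ T) (hs : (⊤ : T'.Opens) ≤ s ⁻¹ᵁ W) : Nonempty (Chart n q qu (s ≫ t)) := by
  obtain ⟨c, hc⟩ := RelVALib.exists_compIso s t (s ≫ t) rfl Q
  have hA' : (⊤ : T'.Opens) ≤ ((s ≫ t) ≫ π) ⁻¹ᵁ A.1 := fun y _ => hA (Set.mem_univ (s y))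
  have hframe : ∀ k, c.hom.app ⊤ (frameOf qu (s ≫ t) A.1 b hA' I k) =
      resM _ hs (pullSec s (resM _ le_top (frameOf qu t A.1 b hA I k))) := fun k => by
    rw [frameOf, frameOf, app_resM, vvT_app, vvT_app]
    refine (congrArg (resM _ hA') ((hc (π ⁻¹ᵁ A.1) (qval qu A.1 _) le_rfl).trans (resM_self _ _ _))).trans ?_
    rw [← resM_pullSec, ← resM_pullSec, resM_resM, resM_resM]
    rfl
  exact ⟨{
    A := A
    b := b
    hb := hb
    hA := hA'
    I := I
    frame := isBasisOn_of_iso c.symm (fun k => by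
      rw [← hframe k]
      exact congrArg (fun g : (Scheme.Modules.pullback (s ≫ t)).obj Q ⟶ _ => g.app ⊤ _) c.hom_inv_id)
      (FinCovLib29.isBasisOn_restrict (IsBasisOn.pull s hW) hs) }⟩

/-- Charts exist near each point. -/
theorem exists_chart [Epi qu] (hV : FlatMod.IsFinLocFreeOfRank n V) (hQ : FlatMod.IsFinLocFreeOfRank q Q)
    (t : T ⟶ G) (x : T) : ∃ U : T.Opens, x ∈ U ∧ Nonempty (Chart n q qu (U.ι ≫ t)) := by
  obtain ⟨A₀, b₀, hx₀, hb₀⟩ := FinCovLib29.exists_isBasisOn_of_rank hV ((t ≫ π) x)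
  obtain ⟨A, hA, hxA, hAA₀⟩ := Opens.isBasis_iff_nbhd.1 X.isBasis_affineOpens hx₀
  let b : ULift.{u} (Fin n) → Γ(V, A) := fun i => resM V hAA₀ (b₀ i)
  have hb : IsBasisOn V A b := FinCovLib29.isBasisOn_restrict hb₀ hAA₀
  let W₀ := (t ≫ π) ⁻¹ᵁ A
  let t₀ := W₀.ι ≫ t
  have hA₀ : (⊤ : W₀.toScheme.Opens) ≤ (t₀ ≫ π) ⁻¹ᵁ A := fun y _ => y.2
  let w : Fin n → Γ((Scheme.Modules.pullback t₀).obj Q, ⊤) := fun j => resM _ hA₀
    (show Γ((Scheme.Modules.pullback t₀).obj Q, (t₀ ≫ π) ⁻¹ᵁ A) from (vvT qu t₀).app A (b ⟨j⟩))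
  let quot := Grass.quotBC (h := t₀) (g := t₀ ≫ π) rfl qu
  haveI : Epi quot := epi_quotBC qu rfl
  have hbT : IsBasisOn ((Scheme.Modules.pullback (t₀ ≫ π)).obj V) ⊤ fun i => resM _ hA₀ (pullSec (t₀ ≫ π) (b i)) :=
    FinCovLib29.isBasisOn_restrict (IsBasisOn.pull (t₀ ≫ π) hb) hA₀
  haveI := isIso_freeDesc_of_basis hbT
  haveI : Epi (freeDesc fun j : ULift.{u} (Fin n) => unitDesc ((Scheme.Modules.pullback t₀).obj Q) (w j.down)) := by
    rw [show (freeDesc fun j : ULift.{u} (Fin n) => unitDesc ((Scheme.Modules.pullback t₀).obj Q) (w j.down)) =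
      (freeDesc fun i => unitDesc _ (resM _ hA₀ (pullSec (t₀ ≫ π) (b i)))) ≫ quot from ?_]
    · exact epi_comp _ _
    refine freeMod_hom_ext fun j => Existence.unit_hom_ext ?_
    rw [freeInj_freeDesc, ← Category.assoc, freeInj_freeDesc, unitVal_unitDesc, resM_self]
    show w j.down = quot.app ⊤ (unitVal (unitDesc _ _) ⊤)
    rw [unitVal_unitDesc, resM_self, app_resM]
    rfl
  obtain ⟨U₀, I, hxU₀, hI⟩ := exists_frame_of_epi (isFinLocFreeOfRank_pullback t₀ hQ) w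
    (⟨x, hxA⟩ : W₀.toScheme)
  let U := W₀.ι ''ᵁ U₀
  have hUW : Set.range U.ι ⊆ Set.range W₀.ι := by
    rw [Scheme.Opens.range_ι, Scheme.Opens.range_ι]
    rintro _ ⟨y, -, rfl⟩
    exact y.2
  let s := IsOpenImmersion.lift W₀.ι U.ι hUW
  have hs : s ≫ W₀.ι = U.ι := IsOpenImmersion.lift_fac _ _ _
  obtain ⟨C⟩ := exists_chart_of_basisOn (qu := qu) t₀ ⟨A, hA⟩ b hb hA₀ I U₀ hI s fun y _ => by
    obtain ⟨z, hz, hzy⟩ := y.2
    have : W₀.ι (s y) = W₀.ι z := by
      rw [show W₀.ι (s y) = U.ι y from congr($(hs) y)]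
      exact hzy.symm
    show s y ∈ U₀
    rw [W₀.ι.isOpenEmbedding.injective this]
    exact hz
  refine ⟨U, ⟨⟨x, hxA⟩, hxU₀, rfl⟩, ⟨?_⟩⟩
  rw [show U.ι ≫ t = s ≫ t₀ from by rw [← hs, Category.assoc]]
  exact C

variable (φ : ∀ U : X.affineOpens, (L.val.obj (op U.1)) ≃ₗ[Γ(X, U.1)] ↥(⋀[Γ(X, U.1)]^q (V.val.obj (op U.1))))
  (hφ : ∀ (U U' : X.affineOpens) (h : U'.1 ≤ U.1) (e : Fin q → V.val.obj (op U.1)),
      L.val.map (homOfLE h).op ((φ U).symm (exteriorPower.ιMulti _ q e)) =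
        (φ U').symm (exteriorPower.ιMulti _ q (fun j => V.val.map (homOfLE h).op (e j))))
  {πP : P ⟶ X} {O1 : P.Modules} {u₁ : (Scheme.Modules.pullback πP).obj L ⟶ O1}
  (hP : KRR.IsProjBundle πP L O1 u₁)

include hφ hP in
theorem comp_cl_eq {S : Scheme.{u}} {t : T ⟶ G} {t' : T' ⟶ G} (C : Chart n q qu t) (C' : Chart n q qu t')
    (a : S ⟶ T) (b : S ⟶ T') (h : a ≫ t = b ≫ t') : a ≫ C.cl φ hφ hP = b ≫ C'.cl φ hφ hP := by
  obtain ⟨D, -⟩ := C.exists_pull a
  obtain ⟨D', -⟩ := C'.exists_pull b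
  rw [← C.cl_comp φ hφ hP a D, ← C'.cl_comp φ hφ hP b D']
  have key : ∀ (r r' : S ⟶ G) (E : Chart n q qu r) (E' : Chart n q qu r'), r = r' →
      E.cl φ hφ hP = E'.cl φ hφ hP := by
    rintro r _ E E' rfl
    exact E.cl_eq φ hφ hP E'
  exact key _ _ D D' h

include hφ hP in
/-- The Pluecker morphism. -/
theorem exists_plucker [Epi qu] (hV : FlatMod.IsFinLocFreeOfRank n V) (hQ : FlatMod.IsFinLocFreeOfRank q Q) :
    ∃ c : G ⟶ P, c ≫ πP = π ∧
      ∀ {T : Scheme.{u}} (t : T ⟶ G) (C : Chart n q qu t), t ≫ c = C.cl φ hφ hP := by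
  choose U hxU C using fun x => exists_chart (qu := qu) hV hQ (𝟙 G) x
  let C₀ := fun x => (C x).some
  have hU : IsOpenCover U := eq_top_iff.2 fun x _ => Opens.mem_iSup.2 ⟨x, hxU x⟩
  let 𝒰 := G.openCoverOfIsOpenCover U hU
  let c : G ⟶ P := 𝒰.glueMorphisms (fun x => (C₀ x).cl φ hφ hP) fun x y =>
    comp_cl_eq φ hφ hP (C₀ x) (C₀ y) _ _ (by
      simp only [Category.comp_id]
      exact pullback.condition)
  have hc : ∀ x, (U x).ι ≫ c = (C₀ x).cl φ hφ hP := fun x => 𝒰.ι_glueMorphisms _ _ x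
  refine ⟨c, 𝒰.hom_ext _ _ fun x => ?_, fun {T} t C' => ?_⟩
  · show (U x).ι ≫ c ≫ πP = (U x).ι ≫ π
    obtain ⟨hr, -⟩ := (C₀ x).cls_cl φ hφ hP
    rw [← Category.assoc, hc, hr]
    simp
  · refine Scheme.Cover.hom_ext (𝒰.pullback₁ t) _ _ fun x => ?_
    show pullback.fst t (U x).ι ≫ t ≫ c = pullback.fst t (U x).ι ≫ C'.cl φ hφ hP
    rw [← Category.assoc, pullback.condition, Category.assoc, hc]
    exact (comp_cl_eq φ hφ hP C' (C₀ x) (pullback.fst t (U x).ι) (pullback.snd t (U x).ι) (by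
      simp only [Category.comp_id]
      exact pullback.condition)).symm

include hφ hP in
/-- Points with charts and equal Pluecker images are equal. -/
theorem eq_of_cl_eq (hG : Grass.IsGrass π V q Q qu) {a a' : T ⟶ G} (hπ : a' ≫ π = a ≫ π) (C : Chart n q qu a)
    (C₀ : Chart n q qu a') (hcl : C.cl φ hφ hP = C₀.cl φ hφ hP) : a = a' := by
  classical
  haveI := hG.epi
  have hle : ∀ U : X.Opens, (a ≫ π) ⁻¹ᵁ U ≤ (a' ≫ π) ⁻¹ᵁ U := fun U => by rw [hπ]
  have hunit : ∀ {g g' : T ⟶ X} (_ : g' = g) {μ : L ⟶ (Scheme.Modules.pushforward g).obj (Coh.structureModule T)}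
      {μ' : L ⟶ (Scheme.Modules.pushforward g').obj (Coh.structureModule T)} {r : T ⟶ P},
      Cls u₁ g μ r → Cls u₁ g' μ' r → ∃ d : Γ(T, ⊤), IsUnit d ∧ ∀ (U : X.Opens) (_ : IsAffineOpen U) (e : Γ(L, U))
        (h : g ⁻¹ᵁ U ≤ g' ⁻¹ᵁ U), T.presheaf.map (homOfLE h).op (show Γ(T, g' ⁻¹ᵁ U) from μ'.app U e) =
          T.presheaf.map (homOfLE (le_top : g ⁻¹ᵁ U ≤ ⊤)).op d * (show Γ(T, g ⁻¹ᵁ U) from μ.app U e) := by
    intro g g' hgg μ μ' r h h'
    subst hgg
    obtain ⟨d, hd, hd'⟩ := h.exists_unit h'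
    refine ⟨d, hd, fun U hU e h => ?_⟩
    refine Eq.trans ?_ (hd' U hU e)
    exact ConcreteCategory.congr_hom (T.presheaf.map_id (op (g' ⁻¹ᵁ U))) _
  have hminor : ∀ (C' : Chart n q qu a'), C.cl φ hφ hP = C'.cl φ hφ hP →
      ∃ d : Γ(T, ⊤), IsUnit d ∧ ∀ (A : X.affineOpens) (v : Fin q → Γ(V, A.1)),
        T.presheaf.map (homOfLE (hle A.1)).op (C'.minor A.1 v) =
          T.presheaf.map (homOfLE (le_top : (a ≫ π) ⁻¹ᵁ A.1 ≤ ⊤)).op d * C.minor A.1 v := fun C' h => by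
    obtain ⟨d, hd, hd'⟩ := hunit hπ (C.cls_cl φ hφ hP) (h ▸ C'.cls_cl φ hφ hP)
    refine ⟨d, hd, fun A v => ?_⟩
    have := hd' A.1 A.2 (wedge φ A v) (hle A.1)
    rw [C.isMinorHom_mu φ hφ A v, C'.isMinorHom_mu φ hφ A v] at this
    exact this
  -- the frame of `a` is one of `a'`
  have hA' : (⊤ : T.Opens) ≤ (a' ≫ π) ⁻¹ᵁ C.A.1 := C.hA.trans (hle _)
  have hδ : IsBasisOn ((Scheme.Modules.pullback a').obj Q) ⊤ (frameOf qu a' C.A.1 C.b hA' C.I) := by
    refine isBasisOn_of_det C₀.frame ?_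
    obtain ⟨d, hd, hd'⟩ := hminor C₀ hcl
    have h1 := hd' C.A (fun l => C.b ⟨C.I l⟩)
    rw [C.minor_self, mul_one] at h1
    have h2 : IsUnit (T.presheaf.map (homOfLE hA').op (C₀.minor C.A.1 fun l => C.b ⟨C.I l⟩)) := by
      have h3 := congrArg (T.presheaf.map (homOfLE C.hA).op) h1
      rw [← ConcreteCategory.comp_apply, ← ConcreteCategory.comp_apply, ← Functor.map_comp, ← Functor.map_comp] at h3
      exact (show T.presheaf.map (homOfLE hA').op (C₀.minor C.A.1 fun l => C.b ⟨C.I l⟩) = _ from h3) ▸ hd.map _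
    simp only [Chart.minor, minorVal, RingHom.map_det] at h2
    convert h2 using 2
    refine Matrix.ext fun l k => ?_
    exact (congrFun (C₀.frame.coef_res le_top hA'
      (show Γ((Scheme.Modules.pullback a').obj Q, (a' ≫ π) ⁻¹ᵁ C.A.1) from (vvT qu a').app C.A.1 (C.b ⟨C.I l⟩))) ⟨k⟩)
  let C' : Chart n q qu a' := { A := C.A, b := C.b, hb := C.hb, hA := hA', I := C.I, frame := hδ }
  obtain ⟨d, hd, hd'⟩ := hminor C' (hcl.trans (C₀.cl_eq φ hφ hP C'))
  have hd1 : T.presheaf.map (homOfLE (le_top : (a ≫ π) ⁻¹ᵁ C.A.1 ≤ ⊤)).op d = 1 := by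
    have h1 := hd' C.A (fun l => C.b ⟨C.I l⟩)
    rw [C.minor_self, show C'.minor C.A.1 (fun l => C.b ⟨C.I l⟩) = 1 from C'.minor_self, map_one, mul_one] at h1
    exact h1.symm
  have hcoord : ∀ (x : Γ(V, C.A.1)) (k : Fin q),
      T.presheaf.map (homOfLE (hle C.A.1)).op (C'.coord C.A.1 x k) = C.coord C.A.1 x k := by
    intro x k
    have hrow : ∀ {t : T ⟶ G} (D : Chart n q qu t), D.A = C.A → HEq D.b C.b → D.I = C.I →
        D.minor C.A.1 (Function.update (fun l => C.b ⟨C.I l⟩) k x) = D.coord C.A.1 x k := by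
      intro t D h1 h2 h3
      obtain ⟨DA, Db, Dhb, DhA, DI, Dframe⟩ := D
      subst h1
      obtain rfl := eq_of_heq h2
      subst h3
      let E : Chart n q qu t := ⟨C.A, C.b, Dhb, DhA, C.I, Dframe⟩
      show E.minor C.A.1 _ = E.coord C.A.1 x k
      simp only [Chart.minor, minorVal]
      have hm : (Matrix.of fun l m => coefV (vvT qu t) E.frame C.A.1
          (Function.update (fun l => C.b ⟨C.I l⟩) k x l) m) =
          (1 : Matrix (Fin q) (Fin q) Γ(T, (t ≫ π) ⁻¹ᵁ C.A.1)).updateRow k (E.coord C.A.1 x) := by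
        ext l m
        rcases eq_or_ne l k with rfl | hl
        · rw [Matrix.updateRow_self, Matrix.of_apply, Function.update_self]
          rfl
        · rw [Matrix.updateRow_ne hl, Matrix.of_apply, Function.update_of_ne hl, Matrix.one_apply]
          exact (congrFun (E.coord_self l) m).trans (if_congr eq_comm rfl rfl)
      rw [hm]
      have hsum : E.coord C.A.1 x = ∑ l, E.coord C.A.1 x l • (1 : Matrix (Fin q) (Fin q) Γ(T, (t ≫ π) ⁻¹ᵁ C.A.1)) l := by
        ext m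
        rw [Finset.sum_apply, Finset.sum_eq_single m]
        · show _ = _ * (1 : Matrix (Fin q) (Fin q) Γ(T, (t ≫ π) ⁻¹ᵁ C.A.1)) m m
          rw [Matrix.one_apply_eq, mul_one]
        · intro l _ hl
          show _ * (1 : Matrix (Fin q) (Fin q) Γ(T, (t ≫ π) ⁻¹ᵁ C.A.1)) l m = 0
          rw [Matrix.one_apply_ne hl, mul_zero]
        · exact fun h => absurd (Finset.mem_univ m) h
      conv_lhs => arg 1; arg 3; rw [hsum]
      rw [Matrix.det_updateRow_sum, Matrix.det_one, smul_eq_mul, mul_one]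
    have h1 := hd' C.A (Function.update (fun l => C.b ⟨C.I l⟩) k x)
    rw [hrow C rfl HEq.rfl rfl, hrow C' rfl HEq.rfl rfl, hd1, one_mul] at h1
    exact h1
  obtain ⟨i, hi⟩ := exists_iso_of_bases C.frame hδ
  have hq : ∀ {g : T ⟶ X} (hg : a' ≫ π = g) (U : X.Opens) (x : Γ(V, U)) (h : g ⁻¹ᵁ U ≤ a' ⁻¹ᵁ (π ⁻¹ᵁ U)),
      (Grass.quotBC hg qu).app (g ⁻¹ᵁ U) (pullSec g x) = resM _ h
        (show Γ((Scheme.Modules.pullback a').obj Q, (a' ≫ π) ⁻¹ᵁ U) from (vvT qu a').app U x) := by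
    rintro _ rfl U x h
    exact (resM_self _ _ _).symm
  have hbT : IsBasisOn ((Scheme.Modules.pullback (a ≫ π)).obj V) ⊤ fun j => resM _ C.hA (pullSec (a ≫ π) (C.b j)) :=
    FinCovLib29.isBasisOn_restrict (IsBasisOn.pull (a ≫ π) C.hb) C.hA
  have key : Grass.quotBC (h := a) (g := a ≫ π) rfl qu ≫ i.hom = Grass.quotBC hπ qu := by
    refine hom_ext_basis hbT _ _ fun j => ?_
    show i.hom.app ⊤ ((Grass.quotBC (h := a) (g := a ≫ π) rfl qu).app ⊤ (resM _ C.hA (pullSec (a ≫ π) (C.b j)))) = _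
    rw [app_resM (Grass.quotBC (h := a) (g := a ≫ π) rfl qu), app_resM (Grass.quotBC hπ qu), hq hπ C.A.1 (C.b j) (hle _)]
    refine (congrArg (fun z => i.hom.app ⊤ (resM _ C.hA z))
      (C.frame.coef_spec le_top (show Γ((Scheme.Modules.pullback a).obj Q, (a ≫ π) ⁻¹ᵁ C.A.1) from
        (vvT qu a).app C.A.1 (C.b j))).symm).trans ?_
    refine Eq.trans ?_ (congrArg (fun z => resM _ C.hA (resM _ (hle C.A.1) z))
      (hδ.coef_spec le_top (show Γ((Scheme.Modules.pullback a').obj Q, (a' ≫ π) ⁻¹ᵁ C.A.1) from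
        (vvT qu a').app C.A.1 (C.b j))))
    simp only [map_sum, resM_smul, resM_resM, Scheme.Modules.Hom.app_smul]
    refine Finset.sum_congr rfl fun k _ => ?_
    rw [app_resM, hi, resM_self]
    refine congrArg (· • _) ?_
    exact congrArg (T.presheaf.map (homOfLE C.hA).op) (hcoord (C.b j) k.down).symm
  exact (hG.univ T (a ≫ π) _ (isFinLocFreeOfRank_pullback a' hG.rank) (Grass.quotBC hπ qu)
    (epi_quotBC qu hπ)).unique ⟨rfl, i, key⟩ ⟨hπ, Iso.refl _, Category.comp_id _⟩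

include hφ hP in
/-- A Grassmannian bundle embeds in the projective bundle of the exterior power. -/
theorem exists_closedImmersion (hV : FlatMod.IsFinLocFreeOfRank n V) (hqn : q ≤ n)
    (hG : Grass.IsGrass π V q Q qu) : ∃ c : G ⟶ P, IsClosedImmersion c ∧ c ≫ πP = π := by
  haveI := hG.epi
  obtain ⟨c, hc, hcl⟩ := exists_plucker φ hφ hP (qu := qu) hV hG.rank
  refine ⟨c, ?_, hc⟩
  haveI : IsProper π := isProper_of_isGrass_of_rank hV hqn hG
  have hcard : 1 ≤ Fintype.card (Set.powersetCard (Fin n) q) := by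
    rw [← Nat.card_eq_fintype_card, Set.powersetCard.card, Nat.card_eq_fintype_card, Fintype.card_fin]
    exact Nat.choose_pos hqn
  haveI : IsProper πP := isProper_of_isGrass_of_rank (isFinLocFreeOfRank_extPow φ hφ hV) hcard
    (Grass.IsGrass.of_isProjBundle hP)
  haveI : IsProper (c ≫ πP) := hc.symm ▸ ‹IsProper π›
  haveI : IsProper c := IsProper.of_comp c πP
  haveI : Mono c := ⟨fun {T} a b hab => by
    have hπ : b ≫ π = a ≫ π := by rw [← hc, ← Category.assoc, ← Category.assoc, hab]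
    choose U₁ hU₁ hC₁ using fun x => exists_chart (qu := qu) hV hG.rank a x
    choose U₂ hU₂ hC₂ using fun x => exists_chart (qu := qu) hV hG.rank b x
    let U := fun x => U₁ x ⊓ U₂ x
    have hU : IsOpenCover U := eq_top_iff.2 fun x _ => Opens.mem_iSup.2 ⟨x, hU₁ x, hU₂ x⟩
    refine (T.openCoverOfIsOpenCover U hU).hom_ext _ _ fun x => ?_
    show (U x).ι ≫ a = (U x).ι ≫ b
    obtain ⟨D₁, -⟩ := (hC₁ x).some.exists_pull (T.homOfLE (inf_le_left : U x ≤ U₁ x))
    obtain ⟨D₂, -⟩ := (hC₂ x).some.exists_pull (T.homOfLE (inf_le_right : U x ≤ U₂ x))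
    have h1 : T.homOfLE (inf_le_left : U x ≤ U₁ x) ≫ (U₁ x).ι ≫ a = (U x).ι ≫ a := by
      rw [← Category.assoc, Scheme.homOfLE_ι]
    have h2 : T.homOfLE (inf_le_right : U x ≤ U₂ x) ≫ (U₂ x).ι ≫ b = (U x).ι ≫ b := by
      rw [← Category.assoc, Scheme.homOfLE_ι]
    rw [← h1, ← h2]
    refine eq_of_cl_eq φ hφ hP hG ?_ D₁ D₂ ?_
    · rw [h1, h2, Category.assoc, Category.assoc, hπ]
    · rw [← hcl _ D₁, ← hcl _ D₂, h1, h2, Category.assoc, Category.assoc, hab]⟩
  exact (IsClosedImmersion.iff_isProper_and_mono c).2 ⟨inferInstance, inferInstance⟩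

end Groth.Agent.GrassLib.PBundle
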