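import Groth.Agent.GrassLib.PBundle.ExtBasis
import Groth.Agent.RelVALib.UPFunctor
import Groth.Agent.AmpleLib.Power
import Groth.Agent.Coherent.Existence.Contract

/-!
# The map of an exterior power given by minors
-/

set_option autoImplicit false
set_option linter.unusedSectionVars false
set_option linter.style.haveILetI false
set_option backward.isDefEq.respectTransparency.types false
set_option maxHeartbeats 1000000

universe u

open CategoryTheory CategoryTheory.Limits AlgebraicGeometry Opposite TopologicalSpace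
open Groth.Agent.Coherent Groth.Agent.PicLib Groth.Agent.AmpleLib

namespace Groth.Agent.GrassLib.PBundle

variable {X T T' : Scheme.{u}}

/-- The inverse image of the structure module, on sections. -/
theorem exists_unitIso (s : T' ⟶ T) :
    ∃ σ : (Scheme.Modules.pullback s).obj (Coh.structureModule T) ≅ Coh.structureModule T',
      ∀ (U : T.Opens) (a : Γ(T, U)), σ.hom.app (s ⁻¹ᵁ U) (pullSec s (show Γ(Coh.structureModule T, U) from a)) =
        (show Γ(Coh.structureModule T', s ⁻¹ᵁ U) from s.app U a) := by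
  let adj := Scheme.Modules.pullbackPushforwardAdjunction s
  let o' : Γ((Scheme.Modules.pushforward s).obj (Coh.structureModule T'), ⊤) := (1 : Γ(T', s ⁻¹ᵁ ⊤))
  let η := unitDesc ((Scheme.Modules.pushforward s).obj (Coh.structureModule T')) o'
  let f := (adj.homEquiv _ _).symm η
  let o : Γ((Scheme.Modules.pullback s).obj (Coh.structureModule T), ⊤) :=
    pullSec s (show Γ(Coh.structureModule T, ⊤) from (1 : Γ(T, ⊤)))
  let g := unitDesc ((Scheme.Modules.pullback s).obj (Coh.structureModule T)) o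
  have hf : ∀ (U : T.Opens) (a : Γ(T, U)), f.app (s ⁻¹ᵁ U) (pullSec s (show Γ(Coh.structureModule T, U) from a)) =
      (show Γ(Coh.structureModule T', s ⁻¹ᵁ U) from s.app U a) := fun U a => by
    refine (homEquiv_symm_app_pullSec s _ _).trans ?_
    refine (app_unit η a).trans ?_
    rw [unitVal_unitDesc]
    show s.app U a * T'.presheaf.map (homOfLE (s.preimage_mono (le_top : U ≤ ⊤))).op 1 = _
    rw [map_one, mul_one]
  have hgf : g ≫ f = 𝟙 _ := Existence.unit_hom_ext (by
    show f.app ⊤ (unitVal g ⊤) = (1 : Γ(T', ⊤))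
    rw [unitVal_unitDesc, resM_self]
    exact (hf ⊤ 1).trans (show s.app ⊤ (1 : Γ(T, ⊤)) = (1 : Γ(T', s ⁻¹ᵁ ⊤)) from map_one (s.app ⊤).hom))
  have hfg : f ≫ g = 𝟙 _ := by
    refine (adj.homEquiv _ _).injective (Existence.unit_hom_ext ?_)
    show g.app (s ⁻¹ᵁ ⊤) (f.app (s ⁻¹ᵁ ⊤) (pullSec s (show Γ(Coh.structureModule T, ⊤) from (1 : Γ(T, ⊤))))) = o
    rw [hf ⊤ 1]
    refine (app_unit g _).trans ?_
    rw [map_one, one_smul, unitVal_unitDesc]
    exact resM_self _ _ _
  exact ⟨⟨f, g, hfg, hgf⟩, hf⟩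

variable {q : ℕ} {V L : X.Modules}
  (φ : ∀ U : X.affineOpens, (L.val.obj (op U.1)) ≃ₗ[Γ(X, U.1)] ↥(⋀[Γ(X, U.1)]^q (V.val.obj (op U.1))))

variable {p : T ⟶ X} {N : T.Modules} (vv : V ⟶ (Scheme.Modules.pushforward p).obj N)
  {ε : ULift.{u} (Fin q) → Γ(N, ⊤)} (hε : IsBasisOn N ⊤ ε)

/-- The coordinates of the value of a section. -/
noncomputable def coefV (A : X.Opens) (x : Γ(V, A)) (k : Fin q) : Γ(T, p ⁻¹ᵁ A) :=
  hε.coef (le_top : p ⁻¹ᵁ A ≤ ⊤) (show Γ(N, p ⁻¹ᵁ A) from vv.app A x) ⟨k⟩

theorem coefV_add (A : X.Opens) (x y : Γ(V, A)) : coefV vv hε A (x + y) = coefV vv hε A x + coefV vv hε A y := by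
  funext k
  show hε.coef _ (show Γ(N, p ⁻¹ᵁ A) from vv.app A (x + y)) _ = _
  rw [show (show Γ(N, p ⁻¹ᵁ A) from vv.app A (x + y)) =
    (show Γ(N, p ⁻¹ᵁ A) from vv.app A x) + (show Γ(N, p ⁻¹ᵁ A) from vv.app A y) from map_add _ _ _, hε.coef_add]
  rfl

theorem coefV_smul (A : X.Opens) (r : Γ(X, A)) (x : Γ(V, A)) :
    coefV vv hε A (r • x) = fun k => p.app A r * coefV vv hε A x k := by
  funext k
  show hε.coef _ (show Γ(N, p ⁻¹ᵁ A) from vv.app A (r • x)) _ = _
  rw [show (show Γ(N, p ⁻¹ᵁ A) from vv.app A (r • x)) = p.app A r • (show Γ(N, p ⁻¹ᵁ A) from vv.app A x) from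
    Scheme.Modules.Hom.app_smul vv r x, hε.coef_smul]
  rfl

theorem coefV_res {A B : X.Opens} (h : B ≤ A) (x : Γ(V, A)) :
    coefV vv hε B (resM V h x) = fun k => T.presheaf.map (homOfLE (p.preimage_mono h)).op (coefV vv hε A x k) := by
  funext k
  show hε.coef _ (show Γ(N, p ⁻¹ᵁ B) from vv.app B (resM V h x)) _ = _
  rw [app_resM vv h x]
  exact congrFun (hε.coef_res (le_top : p ⁻¹ᵁ A ≤ ⊤) (p.preimage_mono h) _) _

/-- The determinant of the coordinates of values. -/
noncomputable def minorVal (A : X.Opens) (v : Fin q → Γ(V, A)) : Γ(T, p ⁻¹ᵁ A) :=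
  Matrix.det (Matrix.of fun a k => coefV vv hε A (v a) k)

/-- A map sends wedges to minors. -/
def IsMinorHom (μ : L ⟶ (Scheme.Modules.pushforward p).obj (Coh.structureModule T)) : Prop :=
  ∀ (A : X.affineOpens) (v : Fin q → Γ(V, A.1)),
    (show Γ(T, p ⁻¹ᵁ A.1) from μ.app A.1 (wedge φ A v)) = minorVal vv hε A.1 v

theorem minorVal_update_add (A : X.Opens) (v : Fin q → Γ(V, A)) (i : Fin q) (x y : Γ(V, A)) :
    minorVal vv hε A (Function.update v i (x + y)) =
      minorVal vv hε A (Function.update v i x) + minorVal vv hε A (Function.update v i y) := by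
  simp only [minorVal]
  have h : ∀ z, (Matrix.of fun a k => coefV vv hε A (Function.update v i z a) k) =
      (Matrix.of fun a k => coefV vv hε A (v a) k).updateRow i (coefV vv hε A z) := fun z => by
    ext a k
    rcases eq_or_ne a i with rfl | ha
    · simp
    · simp [ha]
  rw [h, h, h, coefV_add, Matrix.det_updateRow_add]

theorem minorVal_update_smul (A : X.Opens) (v : Fin q → Γ(V, A)) (i : Fin q) (r : Γ(X, A)) (x : Γ(V, A)) :
    minorVal vv hε A (Function.update v i (r • x)) = p.app A r * minorVal vv hε A (Function.update v i x) := by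
  simp only [minorVal]
  have h : ∀ z, (Matrix.of fun a k => coefV vv hε A (Function.update v i z a) k) =
      (Matrix.of fun a k => coefV vv hε A (v a) k).updateRow i (coefV vv hε A z) := fun z => by
    ext a k
    rcases eq_or_ne a i with rfl | ha
    · simp
    · simp [ha]
  rw [h, h, coefV_smul]
  exact Matrix.det_updateRow_smul _ i (p.app A r) _

/-- The minors as an alternating map. -/
noncomputable def minorAlt (A : X.Opens) :
    (V.val.obj (op A)) [⋀^Fin q]→ₗ[Γ(X, A)]
      (((Scheme.Modules.pushforward p).obj (Coh.structureModule T)).val.obj (op A)) where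
  toFun v := (show Γ(T, p ⁻¹ᵁ A) from minorVal vv hε A v)
  map_update_add' := @fun inst v i x y => by
    obtain rfl := Subsingleton.elim inst (instDecidableEqFin q)
    exact minorVal_update_add vv hε A v i x y
  map_update_smul' := @fun inst v i r x => by
    obtain rfl := Subsingleton.elim inst (instDecidableEqFin q)
    exact minorVal_update_smul vv hε A v i r x
  map_eq_zero_of_eq' v i j h hij := by
    show minorVal vv hε A v = (0 : Γ(T, p ⁻¹ᵁ A))
    exact Matrix.det_zero_of_row_eq hij (funext fun k => congrArg (fun z => coefV vv hε A z k) h)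

variable (hφ : ∀ (U U' : X.affineOpens) (h : U'.1 ≤ U.1) (e : Fin q → V.val.obj (op U.1)),
      L.val.map (homOfLE h).op ((φ U).symm (exteriorPower.ιMulti _ q e)) =
        (φ U').symm (exteriorPower.ιMulti _ q (fun j => V.val.map (homOfLE h).op (e j))))

include hφ in
theorem exists_isMinorHom :
    ∃ μ : L ⟶ (Scheme.Modules.pushforward p).obj (Coh.structureModule T), IsMinorHom φ vv hε μ := by
  obtain ⟨μ, hμ⟩ := exists_hom_of_alt φ hφ (fun A => minorAlt vv hε A.1) fun A B h v => by
    show T.presheaf.map (homOfLE (p.preimage_mono h)).op (minorVal vv hε A.1 v) = minorVal vv hε B.1 _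
    simp only [minorVal, RingHom.map_det]
    congr 1
    ext a k
    exact (congrFun (coefV_res vv hε h (v a)) k).symm
  exact ⟨μ, hμ⟩

theorem isMinorHom_unique {μ μ' : L ⟶ (Scheme.Modules.pushforward p).obj (Coh.structureModule T)}
    (h : IsMinorHom φ vv hε μ) (h' : IsMinorHom φ vv hε μ') : μ = μ' :=
  hom_ext_wedge φ _ _ fun A v => (h A v).trans (h' A v).symm

/-- A unit generates the structure module. -/
theorem isGen_of_isUnit {W : T.Opens} {a : Γ(T, W)} (h : IsUnit a) :
    IsGen (Coh.structureModule T) W (show Γ(Coh.structureModule T, W) from a) := by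
  intro W' hW'
  have hu : IsUnit (T.presheaf.map (homOfLE hW').op a) := h.map (T.presheaf.map (homOfLE hW').op).hom
  exact ⟨fun r r' hr => hu.mul_left_injective hr, fun z =>
    ⟨(show Γ(T, W') from z) * ↑(hu.unit⁻¹), (show ∀ z : Γ(T, W'), z * ↑(hu.unit⁻¹) *
      T.presheaf.map (homOfLE hW').op a = z from fun z => by rw [mul_assoc, hu.val_inv_mul, mul_one]) z⟩⟩

/-- The values of the map of sections whose wedges are near-units generate. -/
theorem exists_gen_of_isMinorHom {μ : L ⟶ (Scheme.Modules.pushforward p).obj (Coh.structureModule T)}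
    (hμ : IsMinorHom φ vv hε μ)
    (h : ∀ x : T, ∃ (A : X.affineOpens) (v : Fin q → Γ(V, A.1)), x ∈ T.basicOpen (minorVal vv hε A.1 v)) :
    ∀ x : T, ∃ (U : X.Opens) (e : Γ(L, U)) (W : T.Opens) (hW : W ≤ p ⁻¹ᵁ U),
      x ∈ W ∧ IsGen (Coh.structureModule T) W
        (resM (Coh.structureModule T) hW (show Γ(Coh.structureModule T, p ⁻¹ᵁ U) from μ.app U e)) := fun x => by
  obtain ⟨A, v, hx⟩ := h x
  refine ⟨A.1, wedge φ A v, _, T.basicOpen_le _, hx, ?_⟩
  refine isGen_of_isUnit ?_
  show IsUnit (T.presheaf.map (homOfLE (T.basicOpen_le _)).op (show Γ(T, p ⁻¹ᵁ A.1) from μ.app A.1 (wedge φ A v)))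
  rw [hμ A v]
  exact T.toRingedSpace.isUnit_res_basicOpen _

end Groth.Agent.GrassLib.PBundle
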